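import Groth.Agent.H4DR.DComplete.Coind
import Groth.Agent.H4DR.TorAmp.Derived

/-!
# Existence of derived completion
-/

set_option autoImplicit false
set_option linter.style.haveILetI false

universe u

open CategoryTheory CategoryTheory.Limits Pretriangulated
open Groth.Agent.H16Derived

attribute [local instance] HasDerivedCategory.standard

namespace Groth.Agent.H4DR.DComplete

variable {A : Type u} [CommRing A]

lemma isDerivedComplete_span_iff (S : Set A) (K : Dual.D A) :
    DRing.IsDerivedComplete (Ideal.span S) K ↔ ∀ f ∈ S, ∀ n : ℤ, Bij f (Dual.HD A K n) := by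
  rw [isDerivedComplete_iff]
  refine ⟨fun h f hf => h f (Ideal.subset_span hf), fun h => ?_⟩
  have hle : Ideal.span S ≤ ⨅ n : ℤ, bijIdeal (A := A) (Dual.HD A K n) :=
    Ideal.span_le.2 fun f hf => (Submodule.mem_iInf _).2 fun n => h f hf n
  exact fun g hg n => (Submodule.mem_iInf _).1 (hle hg) n

lemma isDerivedComplete_shift {I : Ideal A} {K : Dual.D A} (h : DRing.IsDerivedComplete I K) (m : ℤ) :
    DRing.IsDerivedComplete I (K⟦m⟧) := fun f hf n =>
  (Iso.homToEquiv (Z := Dual.inD A (Localization.Away f))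
    ((shiftFunctorAdd (Dual.D A) m n).app K)).subsingleton_congr.1 (h f hf (m + n))

lemma isDerivedComplete_of_iso {I : Ideal A} {K K' : Dual.D A} (e : K ≅ K')
    (h : DRing.IsDerivedComplete I K) : DRing.IsDerivedComplete I K' := fun f hf n =>
  (Iso.homToEquiv (Z := Dual.inD A (Localization.Away f))
    ((shiftFunctor (Dual.D A) n).mapIso e)).subsingleton_congr.1 (h f hf n)

/-- `ev : Hom(A_f, J) ⟶ J`. -/
noncomputable def ev (f : A) (J : DRing.Cx A) : coind (loc f) J ⟶ J :=
  ((NatTrans.mapHomologicalComplex (evF f) (ComplexShape.up ℤ)).app J) ≫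
    (Functor.mapHomologicalComplexIdIso (ModuleCat.{u} A) (ComplexShape.up ℤ)).hom.app J

lemma isIso_ev (f : A) (J : DRing.Cx A) (hJ : ∀ i, Function.Bijective (fun x : J.X i => f • x)) :
    IsIso (ev f J) := by
  haveI : ∀ i, IsIso (((NatTrans.mapHomologicalComplex (evF f) (ComplexShape.up ℤ)).app J).f i) :=
    fun i => isIso_evF_app f (J.X i) (hJ i)
  haveI := HomologicalComplex.Hom.isIso_of_components
    ((NatTrans.mapHomologicalComplex (evF f) (ComplexShape.up ℤ)).app J)
  unfold ev
  infer_instance

lemma acyclic_cone_of_isIso {K L : DRing.Cx A} (φ : K ⟶ L) [IsIso φ] :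
    (CochainComplex.mappingCone φ).Acyclic := fun i =>
  have h : IsZero (DerivedCategory.Q.obj (CochainComplex.mappingCone φ)) :=
    Triangle.isZero₃_of_isIso₁ _ (DerivedCategory.mappingCone_triangle_distinguished φ)
      (inferInstanceAs (IsIso (DerivedCategory.Q.map φ)))
  HomologicalComplex.exactAt_iff_isZero_homology _ i |>.2
    (((DerivedCategory.homologyFunctor (ModuleCat.{u} A) i).map_isZero h).of_iso
      ((DerivedCategory.homologyFunctorFactors (ModuleCat.{u} A) i).app _).symm)

lemma acyclic_cone {K L : DRing.Cx A} (φ : K ⟶ L) (hK : K.Acyclic) (hL : L.Acyclic) :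
    (CochainComplex.mappingCone φ).Acyclic := fun i => by
  rw [← TorAmp.subsingleton_HD_toD_iff]
  exact PCoh.subsingleton₃ _ (DerivedCategory.mappingCone_triangle_distinguished φ) i (i + 1) rfl
    ((TorAmp.subsingleton_HD_toD_iff _ _).2 (hK (i + 1))) ((TorAmp.subsingleton_HD_toD_iff _ _).2 (hL i))

lemma acyclic_map {J : DRing.Cx A} [CochainComplex.IsKInjective J] (h : J.Acyclic)
    (F : ModuleCat.{u} A ⥤ ModuleCat.{u} A) [F.Additive] :
    ((F.mapHomologicalComplex (ComplexShape.up ℤ)).obj J).Acyclic := fun i => by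
  rw [HomologicalComplex.exactAt_iff_isZero_homology, IsZero.iff_id_eq_zero,
    ← HomologicalComplex.homologyMap_id]
  have H := F.mapHomotopy (CochainComplex.IsKInjective.homotopyZero (𝟙 J) h)
  have := H.homologyMap_eq i
  rw [CategoryTheory.Functor.map_id, Functor.map_zero, HomologicalComplex.homologyMap_zero] at this
  exact this

/-- The coinduced cone is acyclic in the same direction. -/
theorem acyclic_coind_cone (f : A) (J : DRing.Cx A) :
    (coind (loc f) (CochainComplex.mappingCone (ev f J))).Acyclic := by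
  let F := homF (loc f)
  haveI : IsIso ((F.mapHomologicalComplex (ComplexShape.up ℤ)).map (ev f J)) := by
    haveI : ∀ i, IsIso (((F.mapHomologicalComplex (ComplexShape.up ℤ)).map (ev f J)).f i) := fun i => by
      let eM := ((evF f).app (J.X i))
      have h1 : ((F.mapHomologicalComplex (ComplexShape.up ℤ)).map (ev f J)).f i = F.map eM :=
        congrArg F.map (Category.comp_id eM)
      rw [h1]
      have h2 : F.map eM = ModuleCat.ofHom (LinearMap.llcomp A _ _ _ eM.hom) := rfl
      have := isIso_evF_app f (F.obj (J.X i)) (smul_bijective_homF f (J.X i))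
      let sw := (flipIso (loc f) (loc f)).app (J.X i)
      have h3 : F.map eM = sw.hom ≫ (evF f).app (F.obj (J.X i)) := by
        refine ModuleCat.hom_ext (LinearMap.ext fun g => LinearMap.ext fun x => rfl)
      rw [h3]
      exact IsIso.comp_isIso' sw.isIso_hom this
    exact HomologicalComplex.Hom.isIso_of_components _
  exact (acyclic_cone_of_isIso ((F.mapHomologicalComplex (ComplexShape.up ℤ)).map (ev f J))) |> fun h i =>
    (h i).of_iso (CochainComplex.mappingCone.mapHomologicalComplexIso (ev f J) F).symm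

theorem acyclic_coind_cone' (f g : A) (J : DRing.Cx A) [CochainComplex.IsKInjective J]
    (h : (coind (loc g) J).Acyclic) :
    (coind (loc g) (CochainComplex.mappingCone (ev f J))).Acyclic := by
  let F := homF (loc g)
  haveI := isKInjective_coind g J
  have h1 : ((F.mapHomologicalComplex (ComplexShape.up ℤ)).obj (coind (loc f) J)).Acyclic := fun i =>
    (acyclic_map h (homF (loc f)) i).of_iso
      ((NatIso.mapHomologicalComplex (flipIso (loc g) (loc f)) (ComplexShape.up ℤ)).app J)
  exact fun i => (acyclic_cone ((F.mapHomologicalComplex (ComplexShape.up ℤ)).map (ev f J)) h1 h i).of_iso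
    (CochainComplex.mappingCone.mapHomologicalComplexIso (ev f J) F).symm

/-- Complete objects do not see the cone. -/
theorem bijective_precomp_inr {I : Ideal A} {f : A} (hf : f ∈ I) (J : DRing.Cx A) {E : Dual.D A}
    (hE : DRing.IsDerivedComplete I E) :
    Function.Bijective (fun φ : DRing.toD (CochainComplex.mappingCone (ev f J)) ⟶ E =>
      DerivedCategory.Q.map (CochainComplex.mappingCone.inr (ev f J)) ≫ φ) := by
  let W := coind (loc f) J
  have hW : ∀ n : ℤ, ∀ x : (DRing.toD W)⟦n⟧ ⟶ E, x = 0 := fun n x => by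
    refine (cancel_epi ((DerivedCategory.Q.commShiftIso n).app W).hom).1 ?_
    rw [comp_zero]
    exact hom_eq_zero hf (W⟦n⟧) (fun i => smul_bijective_homF f (J.X (i + n))) hE _
  have hT := DerivedCategory.mappingCone_triangle_distinguished (ev f J)
  let Tr : Triangle (Dual.D A) :=
    DerivedCategory.Q.mapTriangle.obj (CochainComplex.mappingCone.triangle (ev f J))
  refine ⟨fun φ φ' h => ?_, fun y => ?_⟩
  · obtain ⟨z, hz⟩ := Triangle.yoneda_exact₃ Tr hT (φ - φ') (show Tr.mor₂ ≫ (φ - φ') = 0 from
      (Preadditive.comp_sub _ _ _).trans (sub_eq_zero.2 h))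
    exact sub_eq_zero.1 (hz.trans ((congrArg (Tr.mor₃ ≫ ·) (hW 1 z)).trans comp_zero))
  · obtain ⟨z, hz⟩ := Triangle.yoneda_exact₂ Tr hT y (by
      refine (cancel_epi ((shiftFunctorZero (Dual.D A) ℤ).hom.app (DRing.toD W))).1 ?_
      exact (hW 0 _).trans comp_zero.symm)
    exact ⟨z, hz.symm⟩

/-- Bounds on cohomology along the construction. -/
theorem subsingleton_HD_cone (f : A) (J : DRing.Cx A) [CochainComplex.IsKInjective J] (i : ℤ) :
    ((∀ j, j ≤ i + 1 → Subsingleton (Dual.HD A (DRing.toD J) j)) →
      Subsingleton (Dual.HD A (DRing.toD (CochainComplex.mappingCone (ev f J))) i)) ∧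
    ((∀ j, i ≤ j → Subsingleton (Dual.HD A (DRing.toD J) j)) →
      Subsingleton (Dual.HD A (DRing.toD (CochainComplex.mappingCone (ev f J))) i)) := by
  have key : ∀ n : ℤ, Subsingleton (Dual.inD A (Localization.Away f) ⟶ (DRing.toD J)⟦n⟧) →
      Subsingleton (Dual.HD A (DRing.toD (coind (loc f) J)) n) := by
    intro n hn
    rw [TorAmp.subsingleton_HD_toD_iff]
    exact exactAt_coind' (loc f) J n hn
  have htri := DerivedCategory.mappingCone_triangle_distinguished (ev f J)
  constructor
  · intro h
    refine PCoh.subsingleton₃ _ htri i (i + 1) rfl (key _ ?_) (h i (by omega))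
    refine subsingleton_of_forall_eq 0 fun x => Hom.eq_zero_of_lt 0 1 one_pos
      (fun j hj => PCoh.subsingleton_HD_inD (ModuleCat.of A (Localization.Away f)) j hj.ne') (fun j hj => ?_) x
    haveI := h (i + 1 + j) (by omega)
    exact (PCoh.hShift (DRing.toD J) (i + 1) j (i + 1 + j) rfl).injective.subsingleton
  · intro h
    refine PCoh.subsingleton₃ _ htri i (i + 1) rfl (key _ ?_) (h i le_rfl)
    refine subsingleton_of_forall_eq 0 fun x => ?_
    let F : ModuleCat.{u} A := ModuleCat.of A (ℕ →₀ A)
    let Sq : ShortComplex (ModuleCat.{u} A) := ShortComplex.mk (ModuleCat.ofHom (uMap f))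
      (ModuleCat.ofHom (πMap f))
      (ModuleCat.hom_ext (LinearMap.ext fun x => ((shortExact_resolution f).1 (uMap f x)).2 ⟨x, rfl⟩))
    have hS : Sq.ShortExact :=
      { exact := (ShortComplex.ShortExact.moduleCat_exact_iff_function_exact Sq).2 (shortExact_resolution f).1
        mono_f := (ModuleCat.mono_iff_injective _).2 (shortExact_resolution f).2.1
        epi_g := (ModuleCat.epi_iff_surjective _).2 (shortExact_resolution f).2.2 }
    have hF : ∀ m : ℤ, i ≤ m → ∀ y : Dual.inD A F ⟶ (DRing.toD J)⟦m⟧, y = 0 := fun m hm y => by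
      haveI := h m hm
      haveI := (PCoh.hShift (DRing.toD J) m 0 m (add_zero m)).injective.subsingleton
      exact (bijective_homH F _).1 (ModuleCat.hom_ext (LinearMap.ext fun z => Subsingleton.elim
        (α := Dual.HD A ((DRing.toD J)⟦m⟧) 0) _ _))
    obtain ⟨y, hy⟩ := Triangle.yoneda_exact₃ hS.singleTriangle hS.singleTriangle_distinguished x
      (hF (i + 1) (by omega) _)
    let e : ((DRing.toD J)⟦i⟧)⟦(1 : ℤ)⟧ ≅ (DRing.toD J)⟦i + 1⟧ :=
      ((shiftFunctorAdd (Dual.D A) i 1).app (DRing.toD J)).symm
    obtain ⟨y', hy'⟩ := (shiftFunctor (Dual.D A) (1 : ℤ)).map_surjective (X := Dual.inD A F)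
      (Y := (DRing.toD J)⟦i⟧) (y ≫ e.inv)
    rw [hF i le_rfl y', Functor.map_zero] at hy'
    have hy0 : y = 0 := (cancel_mono e.inv).1 (hy'.symm.trans zero_comp.symm)
    exact hy.trans ((congrArg (_ ≫ ·) hy0).trans comp_zero)

/-- Data of a derived completion along finitely many elements. -/
theorem exists_completion (s : Finset A) : ∀ K : Dual.D A,
    ∃ (J : DRing.Cx A) (η : K ⟶ DRing.toD J), CochainComplex.IsKInjective J ∧
      (∀ g ∈ s, (coind (loc g) J).Acyclic) ∧
      (∀ E : Dual.D A, DRing.IsDerivedComplete (Ideal.span (s : Set A)) E →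
        Function.Bijective (fun φ : DRing.toD J ⟶ E => η ≫ φ)) ∧
      (∀ a : ℤ, (∀ j, j < a → Subsingleton (Dual.HD A K j)) →
        ∀ j, j < a - s.card → Subsingleton (Dual.HD A (DRing.toD J) j)) ∧
      (∀ b : ℤ, (∀ j, b < j → Subsingleton (Dual.HD A K j)) →
        ∀ j, b < j → Subsingleton (Dual.HD A (DRing.toD J) j)) := by
  classical
  induction s using Finset.induction_on with
  | empty =>
    intro K
    obtain ⟨J, hJ, ⟨e⟩⟩ := KInjRes.exists_kInjective_iso K
    refine ⟨J, e.hom, hJ, fun g hg => absurd hg (Finset.notMem_empty g), fun E _ => ?_, fun a h j hj => ?_,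
      fun b h j hj => ?_⟩
    · exact (Iso.homFromEquiv (Z := E) e).symm.bijective
    · haveI := h j (by simpa using hj)
      exact (PCoh.hEquiv j e.symm).injective.subsingleton
    · haveI := h j hj
      exact (PCoh.hEquiv j e.symm).injective.subsingleton
  | @insert f s hf ih =>
    intro K
    obtain ⟨J, η, hJ, hac, hbij, ha, hb⟩ := ih K
    haveI := hJ
    haveI := isKInjective_coind f J
    refine ⟨CochainComplex.mappingCone (ev f J),
      η ≫ DerivedCategory.Q.map (CochainComplex.mappingCone.inr (ev f J)), isKInjective_cone _, ?_, ?_, ?_, ?_⟩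
    · intro g hg
      rcases Finset.mem_insert.1 hg with rfl | hg
      · exact acyclic_coind_cone g J
      · exact acyclic_coind_cone' f g J (hac g hg)
    · intro E hE
      have hE' : DRing.IsDerivedComplete (Ideal.span (s : Set A)) E := fun g hg =>
        hE g (Ideal.span_mono (Finset.coe_subset.2 (Finset.subset_insert f s)) hg)
      simp only [Category.assoc]
      exact (hbij E hE').comp (bijective_precomp_inr
        (Ideal.subset_span (Finset.mem_coe.2 (Finset.mem_insert_self f s))) J hE)
    · intro a h j hj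
      rw [Finset.card_insert_of_notMem hf, Nat.cast_succ] at hj
      exact (subsingleton_HD_cone f J j).1 fun j' hj' => ha a h j' (by omega)
    · intro b h j hj
      exact (subsingleton_HD_cone f J j).2 fun j' hj' => hb b h j' (by omega)

theorem isDerivedComplete_of_acyclic_coind (s : Finset A) (J : DRing.Cx A) [CochainComplex.IsKInjective J]
    (h : ∀ g ∈ s, (coind (loc g) J).Acyclic) :
    DRing.IsDerivedComplete (Ideal.span (s : Set A)) (DRing.toD J) :=
  (isDerivedComplete_span_iff _ _).2 fun g hg =>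
    (subsingleton_hom_iff g _).1 ((acyclic_coind_iff g J).1 (h g (Finset.mem_coe.1 hg)))

theorem hasDerivedCompletion (s : Finset A) :
    DRing.HasDerivedCompletion (Ideal.span (s : Set A)) := by
  choose J η hJ hac hbij _ _ using exists_completion s
  haveI := hJ
  let G : Dual.D A → DRing.DComp (Ideal.span (s : Set A)) := fun K =>
    ⟨DRing.toD (J K), isDerivedComplete_of_acyclic_coind s (J K) (hac K)⟩
  let e : ∀ (K : Dual.D A) (L : DRing.DComp (Ideal.span (s : Set A))),
      (G K ⟶ L) ≃ (K ⟶ L.obj) := fun K L =>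
    (⟨fun φ => φ.hom, fun φ => ObjectProperty.homMk φ, fun _ => rfl, fun _ => rfl⟩ :
      (G K ⟶ L) ≃ (DRing.toD (J K) ⟶ L.obj)).trans (Equiv.ofBijective _ (hbij K L.obj L.property))
  have hnat : ∀ (K : Dual.D A) (L L' : DRing.DComp (Ideal.span (s : Set A))) (g : L ⟶ L') (h : G K ⟶ L),
      e K L' (h ≫ g) = e K L h ≫ (ObjectProperty.ι _).map g := fun K L L' g h =>
    show η K ≫ h.hom ≫ g.hom = (η K ≫ h.hom) ≫ g.hom from (Category.assoc _ _ _).symm
  exact (Adjunction.adjunctionOfEquivLeft e hnat).isRightAdjoint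

end Groth.Agent.H4DR.DComplete
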