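import Groth.Agent.H4DR.DComplete.Elem

/-!
# Consequences of derived completeness for modules
-/

set_option autoImplicit false
set_option linter.style.haveILetI false

universe u v

open Pointwise

namespace Groth.Agent.H4DR.DComplete

variable {A : Type u} [CommRing A] {M : Type v} [AddCommGroup M] [Module A M]

/-- Nakayama. -/
theorem subsingleton_of_smul_top (s : Finset A) : ∀ {M : Type v} [AddCommGroup M] [Module A M],
    (∀ f ∈ s, Bij f M) → Ideal.span (s : Set A) • (⊤ : Submodule A M) = ⊤ → Subsingleton M := by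
  classical
  induction s using Finset.induction_on with
  | empty =>
    intro M _ _ _ h
    simp only [Finset.coe_empty, Ideal.span_empty, Submodule.bot_smul] at h
    exact ⟨fun a b => by
        have ha : a ∈ (⊥ : Submodule A M) := h ▸ trivial
        have hb : b ∈ (⊥ : Submodule A M) := h ▸ trivial
        rw [(Submodule.mem_bot A).1 ha, (Submodule.mem_bot A).1 hb]⟩
  | @insert f s _ ih =>
    intro M _ _ hb h
    let l : M →ₗ[A] M := f • LinearMap.id
    have hf := hb f (Finset.mem_insert_self _ _)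
    haveI : Subsingleton (M ⧸ LinearMap.range l) := by
      refine ih (fun g hg => (hb g (Finset.mem_insert_of_mem hg)).coker l
        (hb g (Finset.mem_insert_of_mem hg))) ?_
      have h' := congrArg (Submodule.map (LinearMap.range l).mkQ) h
      rw [Submodule.map_smul'', Submodule.map_top, Submodule.range_mkQ, Finset.coe_insert,
        Ideal.span_insert, Submodule.sup_smul] at h'
      refine le_antisymm le_top (h'.ge.trans (sup_le ?_ le_rfl))
      refine Submodule.smul_le.2 fun a ha x _ => ?_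
      obtain ⟨c, rfl⟩ := Ideal.mem_span_singleton'.1 ha
      obtain ⟨y, rfl⟩ := Submodule.mkQ_surjective _ x
      rw [mul_smul, ← map_smul, show (LinearMap.range l).mkQ (f • y) = 0 from
        (Submodule.Quotient.mk_eq_zero _).2 ⟨y, rfl⟩, smul_zero]
      exact zero_mem _
    have hsurj : Function.Surjective (fun x : M => f • x) := fun x => by
      have : x ∈ LinearMap.range l := (Submodule.Quotient.mk_eq_zero _).1 (Subsingleton.elim _ _)
      exact this
    choose g hg using hsurj
    refine subsingleton_of_forall_eq 0 fun a => ?_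
    exact hf.eq_zero (m := fun k => g^[k] a) (fun k => by
      rw [Function.iterate_succ_apply']; exact (hg _).symm) 0

/-- Derived complete torsion modules have bounded torsion. -/
theorem exists_pow_smul_eq_zero {f : A} (h : Bij f M) (ht : ∀ x : M, ∃ n, f ^ n • x = 0) :
    ∃ n, ∀ x : M, f ^ n • x = 0 := by
  by_contra hne
  push Not at hne
  have hstrict : ∀ n, ∃ y : M, ∀ z, f ^ n • y ≠ f ^ (n + 1) • z := by
    by_contra hc
    push Not at hc
    obtain ⟨n, hn⟩ := hc
    choose z hz using hn
    obtain ⟨x, hx⟩ := hne n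
    refine hx ?_
    exact h.eq_zero (m := fun k => f ^ n • z^[k] x) (fun k => by
      rw [smul_smul, ← pow_succ', Function.iterate_succ_apply']; exact hz _) 0
  have he : ∀ (K : ℕ) (P : M), ∃ e, K ≤ e ∧ f ^ e • P = 0 := fun K P => by
    obtain ⟨n, hn⟩ := ht P
    exact ⟨n + K, Nat.le_add_left _ _, by rw [add_comm, pow_add, mul_smul, hn, smul_zero]⟩
  choose e heK heP using he
  choose y hy using hstrict
  let σ : ℕ → M → M := fun K P => y (K + e K P)
  let P : ℕ → M := fun K => Nat.rec 0 (fun j Q => Q + f ^ j • σ j Q) K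
  let s : ℕ → M := fun K => σ K (P K)
  obtain ⟨m, hm⟩ := h.exists_sol s
  have hP : ∀ K, P K = ∑ j ∈ Finset.range K, f ^ j • s j := fun K => by
    induction K with
    | zero => rfl
    | succ K ih =>
      rw [Finset.sum_range_succ, ← ih]
  obtain ⟨N, hN⟩ := ht (m 0)
  have h0 : f ^ e N (P N) • m 0 = 0 := by
    rw [← Nat.sub_add_cancel (heK N (P N)), pow_add, mul_smul, hN, smul_zero]
  rw [eq_sum_add hm (N + 1), Finset.sum_range_succ, ← hP, smul_add, smul_add, heP, zero_add,
    smul_smul, smul_smul, ← pow_add, ← pow_add, add_eq_zero_iff_eq_neg, ← smul_neg] at h0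
  refine hy (N + e N (P N)) (-m (N + 1)) ?_
  rw [add_comm N, add_assoc]
  exact (show y (e N (P N) + N) = s N from congrArg y (add_comm _ _)) ▸ h0

/-- `J · ⋂ fⁿ M = 0` for `J = ⋂ fⁿ A`. -/
theorem smul_eq_zero_of_divisible {f : A} (h : Bij f M) {a : ℕ → A} {y : A}
    (ha : ∀ (k : ℕ) (x : M), y • x = (f ^ k * a k) • x) {x : M} (hx : ∀ n, ∃ z : M, x = f ^ n • z) :
    y • x = 0 := by
  have h0 := h.eq_zero (m := fun k => a k • x) (fun k => by
    obtain ⟨z, hz⟩ := hx k
    have e := (ha k z).symm.trans (ha (k + 1) z)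
    rw [hz, smul_smul, smul_smul, smul_smul, mul_comm (a k), e]
    congr 1
    ring) 0
  rw [ha 0 x, mul_smul, h0, smul_zero]

lemma sup_pow_le (I' : Ideal A) (f : A) : ∀ d : ℕ,
    (I' ⊔ Ideal.span {f}) ^ (d + 1) ≤ I' ^ (d + 1) ⊔ f • (I' ⊔ Ideal.span {f}) ^ d := by
  intro d
  induction d with
  | zero =>
    simp only [pow_one, pow_zero, zero_add, Ideal.one_eq_top]
    refine sup_le le_sup_left (le_sup_of_le_right ?_)
    rw [Ideal.span_singleton_le_iff_mem]
    exact Submodule.mem_smul_pointwise_iff_exists f f ⊤ |>.2 ⟨1, trivial, mul_one f⟩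
  | succ d ih =>
    rw [pow_succ (I' ⊔ Ideal.span {f}) (d + 1)]
    rw [Ideal.mul_sup]
    refine sup_le ?_ (le_sup_of_le_right ?_)
    · refine (Ideal.mul_mono ih le_rfl).trans (Ideal.mul_le.2 fun a ha b hb => ?_)
      obtain ⟨p, hp, q, hq, rfl⟩ := Submodule.mem_sup.1 ha
      obtain ⟨q', hq', rfl⟩ := (Submodule.mem_smul_pointwise_iff_exists _ _ _).1 hq
      rw [add_mul]
      refine Submodule.add_mem_sup ?_ ((Submodule.mem_smul_pointwise_iff_exists _ _ _).2 ⟨q' * b, ?_, ?_⟩)
      · rw [pow_succ]; exact Ideal.mul_mem_mul hp hb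
      · rw [pow_succ]; exact Ideal.mul_mem_mul hq' (Submodule.mem_sup_left hb)
      · simp only [smul_eq_mul]; ring
    · intro a ha
      obtain ⟨c, hc, rfl⟩ := Ideal.mem_mul_span_singleton.1 ha
      exact (Submodule.mem_smul_pointwise_iff_exists _ _ _).2 ⟨c, hc, by simp [mul_comm]⟩

lemma exists_decomp (I' : Ideal A) (f : A) (d : ℕ) {x : M}
    (hx : x ∈ ((I' ⊔ Ideal.span {f}) ^ d • ⊤ : Submodule A M)) :
    ∃ y z : M, x = y + f • z ∧ y ∈ (I' ^ d • ⊤ : Submodule A M) ∧
      z ∈ ((I' ⊔ Ideal.span {f}) ^ (d - 1) • ⊤ : Submodule A M) ∧ (d = 0 → y = x ∧ z = 0) := by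
  cases d with
  | zero => exact ⟨x, 0, by simp, by simp, zero_mem _, fun _ => ⟨rfl, rfl⟩⟩
  | succ d =>
    have hle : ((I' ⊔ Ideal.span {f}) ^ (d + 1) • ⊤ : Submodule A M) ≤
        I' ^ (d + 1) • ⊤ ⊔ f • ((I' ⊔ Ideal.span {f}) ^ d • ⊤ : Submodule A M) := by
      refine (Submodule.smul_mono_left (sup_pow_le I' f d)).trans ?_
      rw [Submodule.sup_smul]
      refine sup_le_sup le_rfl (Submodule.smul_le.2 fun a ha m _ => ?_)
      obtain ⟨c, hc, rfl⟩ := (Submodule.mem_smul_pointwise_iff_exists _ _ _).1 ha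
      rw [smul_assoc]
      exact Submodule.smul_mem_pointwise_smul _ _ _ (Submodule.smul_mem_smul hc trivial)
    obtain ⟨y, hy, w, hw, rfl⟩ := Submodule.mem_sup.1 (hle hx)
    obtain ⟨z, hz, rfl⟩ := (Submodule.mem_smul_pointwise_iff_exists _ _ _).1 hw
    exact ⟨y, z, rfl, hy, by simpa using hz, fun h => absurd h (Nat.succ_ne_zero d)⟩

/-- Series with terms in higher and higher powers of a finitely generated ideal have a limit. -/
theorem exists_sum (s : Finset A) : (∀ f ∈ s, Bij f M) → ∀ x : ℕ → M,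
    (∀ n, x n ∈ (Ideal.span (s : Set A) ^ n • ⊤ : Submodule A M)) →
    ∃ L : M, ∀ n, L - ∑ j ∈ Finset.range n, x j ∈ (Ideal.span (s : Set A) ^ n • ⊤ : Submodule A M) := by
  classical
  induction s using Finset.induction_on with
  | empty =>
    intro _ x hx
    refine ⟨x 0, fun n => ?_⟩
    cases n with
    | zero => simp
    | succ n =>
      simp only [Finset.coe_empty, Ideal.span_empty] at hx ⊢
      have h0 : ∀ j, x (j + 1) = 0 := fun j => by
        have := hx (j + 1)
        rw [← Ideal.zero_eq_bot, zero_pow (Nat.succ_ne_zero j), Ideal.zero_eq_bot, Submodule.bot_smul,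
          Submodule.mem_bot] at this
        exact this
      rw [Finset.sum_range_succ', Finset.sum_eq_zero (fun j _ => h0 j), zero_add, sub_self]
      exact zero_mem _
  | @insert f s _ ih =>
    intro hb x hx
    have hI : Ideal.span ((insert f s : Finset A) : Set A) =
        Ideal.span (s : Set A) ⊔ Ideal.span {f} := by
      rw [Finset.coe_insert, Ideal.span_insert, sup_comm]
    rw [hI] at hx ⊢
    set I' := Ideal.span (s : Set A)
    have hdec : ∀ (d : ℕ) (w : M), ∃ y z : M, w ∈ ((I' ⊔ Ideal.span {f}) ^ d • ⊤ : Submodule A M) →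
        (w = y + f • z ∧ y ∈ (I' ^ d • ⊤ : Submodule A M) ∧
        z ∈ ((I' ⊔ Ideal.span {f}) ^ (d - 1) • ⊤ : Submodule A M) ∧ (d = 0 → y = w ∧ z = 0)) := by
      intro d w
      by_cases hw : w ∈ ((I' ⊔ Ideal.span {f}) ^ d • ⊤ : Submodule A M)
      · obtain ⟨y, z, h⟩ := exists_decomp I' f d hw
        exact ⟨y, z, fun _ => h⟩
      · exact ⟨0, 0, fun h => absurd h hw⟩
    choose Y Z hYZ using hdec
    let z : ℕ → ℕ → M := fun n e => Nat.rec (x n) (fun e w => Z (n - e) w) e
    let y : ℕ → ℕ → M := fun n e => Y (n - e) (z n e)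
    have hz : ∀ n e, z n e ∈ ((I' ⊔ Ideal.span {f}) ^ (n - e) • ⊤ : Submodule A M) := by
      intro n e
      induction e with
      | zero => exact hx n
      | succ e ih' =>
        rw [← Nat.sub_sub]
        exact (hYZ _ _ ih').2.2.1
    have hz0 : ∀ n e, n < e → z n e = 0 := by
      intro n e hne
      induction e with
      | zero => omega
      | succ e ih' =>
        exact ((hYZ _ _ (hz n e)).2.2.2 (by omega)).2
    have hy0 : ∀ n e, n < e → y n e = 0 := fun n e hne => by
      exact ((hYZ _ _ (hz n e)).2.2.2 (by omega)).1.trans (hz0 n e hne)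
    have hexp : ∀ n k, x n = ∑ e ∈ Finset.range k, f ^ e • y n e + f ^ k • z n k := by
      intro n k
      exact eq_sum_add (f := f) (m := z n) (s := y n) (fun e => (hYZ _ _ (hz n e)).1) k
    have hS : ∀ e, ∃ L : M, ∀ n, L - ∑ d ∈ Finset.range n, y (e + d) e ∈ (I' ^ n • ⊤ : Submodule A M) :=
      fun e => ih (fun g hg => hb g (Finset.mem_insert_of_mem hg)) (fun d => y (e + d) e) fun d => by
        have := (hYZ _ _ (hz (e + d) e)).2.1
        simp only [y, Nat.add_sub_cancel_left] at this ⊢
        exact this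
    choose S hS using hS
    obtain ⟨m, hm⟩ := (hb f (Finset.mem_insert_self _ _)).exists_sol S
    refine ⟨m 0, fun N => ?_⟩
    have hfp : ∀ k, f ^ k ∈ (I' ⊔ Ideal.span {f}) ^ k := fun k =>
      Ideal.pow_mem_pow (Submodule.mem_sup_right (Ideal.mem_span_singleton_self f)) k
    have hx' : ∀ n ∈ Finset.range N, x n = ∑ e ∈ Finset.range N, f ^ e • y n e := fun n hn => by
      rw [hexp n N, hz0 n N (Finset.mem_range.1 hn), smul_zero, add_zero]
    rw [eq_sum_add hm N, Finset.sum_congr rfl hx', Finset.sum_comm, add_sub_right_comm,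
      ← Finset.sum_sub_distrib]
    refine add_mem (Submodule.sum_mem _ fun e he => ?_) (Submodule.smul_mem_smul (hfp N) trivial)
    have he' : e ≤ N := (Finset.mem_range.1 he).le
    rw [← Finset.smul_sum, ← smul_sub]
    obtain ⟨k, rfl⟩ := Nat.exists_eq_add_of_le he'
    rw [Finset.sum_range_add, Finset.sum_eq_zero (fun j hj => hy0 j e (Finset.mem_range.1 hj)), zero_add,
      pow_add, ← smul_eq_mul, smul_assoc]
    exact Submodule.smul_mem_smul (hfp e) (Submodule.smul_mono_left
      (Ideal.pow_right_mono le_sup_left k) (hS e k))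

/-- The map to the completion is surjective. -/
theorem surjective_completion {I : Ideal A} (s : Finset A) (hs : Ideal.span (s : Set A) = I)
    (hb : ∀ f ∈ s, Bij f M) : Function.Surjective (AdicCompletion.of I M) := by
  have hp : IsPrecomplete I M := ⟨fun {g} hg => by
    obtain ⟨L, hL⟩ := exists_sum s hb (fun n => g (n + 1) - g n) (fun n => by
      rw [hs]
      rw [← neg_sub, neg_mem_iff]
      exact SModEq.sub_mem.1 (hg (Nat.le_succ n)))
    refine ⟨g 0 + L, fun n => SModEq.sub_mem.2 ?_⟩
    have := hL n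
    rw [hs, Finset.sum_range_sub g] at this
    rw [← neg_mem_iff, show -(g n - (g 0 + L)) = L - (g n - g 0) by abel]
    exact this⟩
  intro x
  obtain ⟨g, hg⟩ := AdicCompletion.mk_surjective I M x
  obtain ⟨L, hL⟩ := hp.prec (f := g) (fun {m n} hmn => (g.2 hmn))
  refine ⟨L, AdicCompletion.ext fun n => ?_⟩
  rw [← hg]
  exact (hL n).symm

end Groth.Agent.H4DR.DComplete
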