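import Groth.Agent.H4DR.DComplete.Hom
import Groth.Prelude.Def_DDual2
import Groth.Prelude.Def_DRing2

/-!
# Derived completeness and restriction of scalars; finite free complexes
-/

set_option autoImplicit false
set_option linter.style.haveILetI false

universe u

open CategoryTheory CategoryTheory.Limits

attribute [local instance] HasDerivedCategory.standard

namespace Groth.Agent.H4DR.DComplete

variable {A B : Type u} [CommRing A] [CommRing B] (φ : A →+* B)

lemma bij_restrictScalars (f : A) (M : ModuleCat.{u} B) :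
    Bij f ((ModuleCat.restrictScalars φ).obj M) ↔ Bij (φ f) M := by
  have : (T f ((ModuleCat.restrictScalars φ).obj M) : (ℕ → M) → (ℕ → M)) = T (φ f) M := rfl
  exact iff_of_eq (congrArg Function.Bijective this)

/-- Restriction of scalars commutes with cohomology. -/
noncomputable def homologyRestrictIso (L : Dual.D B) (n : ℤ) :
    (PCoh.H A n).obj ((DRing.restrictD φ).obj L) ≅
      (ModuleCat.restrictScalars φ).obj ((PCoh.H B n).obj L) :=
  let F := ModuleCat.restrictScalars.{u} φ
  let P := DerivedCategory.Q.objPreimage L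
  let e : DRing.toD P ≅ L := DerivedCategory.Q.objObjPreimageIso L
  (PCoh.H A n).mapIso ((DRing.restrictD φ).mapIso e.symm ≪≫ F.mapDerivedCategoryFactors.app P) ≪≫
    (DerivedCategory.homologyFunctorFactors (ModuleCat.{u} A) n).app _ ≪≫
    (P.sc n).mapHomologyIso F ≪≫
    F.mapIso (((DerivedCategory.homologyFunctorFactors (ModuleCat.{u} B) n).app P).symm ≪≫
      (PCoh.H B n).mapIso e)

theorem isDerivedComplete_restrict_iff (I : Ideal A) (L : Dual.D B) :
    DRing.IsDerivedComplete I ((DRing.restrictD φ).obj L) ↔ DRing.IsDerivedComplete (I.map φ) L := by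
  have key : ∀ (f : A) (n : ℤ), Bij f (Dual.HD A ((DRing.restrictD φ).obj L) n) ↔
      Bij (φ f) (Dual.HD B L n) := fun f n =>
    (bij_congr (homologyRestrictIso φ L n).toLinearEquiv).trans (bij_restrictScalars φ f _)
  rw [isDerivedComplete_iff, isDerivedComplete_iff]
  refine ⟨fun h => ?_, fun h f hf n => (key f n).2 (h _ (Ideal.mem_map_of_mem φ hf) n)⟩
  have hle : I.map φ ≤ ⨅ n : ℤ, bijIdeal (A := B) (Dual.HD B L n) := Ideal.map_le_iff_le_comap.2
    fun f hf => (Submodule.mem_iInf _).2 fun n => (key f n).1 (h f hf n)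
  exact fun g hg n => (Submodule.mem_iInf _).1 (hle hg) n

/-- Cohomology of complexes with derived complete terms. -/
theorem bij_HD_toD {f : A} (P : DRing.Cx A) (h : ∀ i, Bij f (P.X i)) (n : ℤ) :
    Bij f (Dual.HD A (DRing.toD P) n) := by
  let S := P.sc n
  let e : (PCoh.H A n).obj (DRing.toD P) ≅ S.moduleCatLeftHomologyData.H :=
    (DerivedCategory.homologyFunctorFactors (ModuleCat.{u} A) n).app P ≪≫ S.moduleCatHomologyIso
  exact (((h _).coker S.moduleCatToCycles ((h n).ker S.g.hom (h _)))).of_equiv e.toLinearEquiv.symm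

theorem isDerivedComplete_of_pc {I : Ideal A} (hA : DRing.IsDerivedComplete I (Dual.inD A A))
    {K : Dual.D A} (hK : DRing.IsPseudoCoherent' A K) : DRing.IsDerivedComplete I K := by
  obtain ⟨P, _, -, hP, ⟨e⟩⟩ := hK
  rw [isDerivedComplete_iff]
  intro f hf n
  refine (bij_HD_toD P (fun i => ?_) n).of_equiv (PCoh.hEquiv n e)
  obtain ⟨_, _⟩ := hP i
  exact (((isDerivedComplete_inD_iff I A).1 hA f hf).pi _).of_equiv
    (Module.Free.chooseBasis A (P.X i)).equivFun.symm

end Groth.Agent.H4DR.DComplete
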