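import Groth.Agent.H4DR.DComplete.Universal

/-!
# Derived completion and triangles
-/

set_option autoImplicit false
set_option linter.style.haveILetI false

universe u

open CategoryTheory CategoryTheory.Limits Pretriangulated

attribute [local instance] HasDerivedCategory.standard

namespace Groth.Agent.H4DR.DComplete

variable {A : Type u} [CommRing A] {I : Ideal A}

lemma IsCompletion.bij_shift {K X : Dual.D A} {η : K ⟶ X} (h : IsCompletion I η) {E : Dual.D A}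
    (hE : DRing.IsDerivedComplete I E) :
    Function.Bijective (fun φ : X⟦(1 : ℤ)⟧ ⟶ E => η⟦(1 : ℤ)⟧' ≫ φ) := by
  let e : (E⟦(-1 : ℤ)⟧)⟦(1 : ℤ)⟧ ≅ E := (shiftFunctorCompIsoId (Dual.D A) (-1 : ℤ) 1 (by omega)).app E
  have hb := h.bij _ (isDerivedComplete_shift hE (-1))
  refine ⟨fun φ φ' hφ => ?_, fun v => ?_⟩
  · obtain ⟨a, ha⟩ := (shiftFunctor (Dual.D A) (1 : ℤ)).map_surjective (φ ≫ e.inv)
    obtain ⟨a', ha'⟩ := (shiftFunctor (Dual.D A) (1 : ℤ)).map_surjective (φ' ≫ e.inv)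
    have : η ≫ a = η ≫ a' := (shiftFunctor (Dual.D A) (1 : ℤ)).map_injective (by
      rw [Functor.map_comp, Functor.map_comp, ha, ha', ← Category.assoc, ← Category.assoc]
      exact congrArg (· ≫ e.inv) hφ)
    rw [← cancel_mono e.inv, ← ha, ← ha', hb.1 this]
  · obtain ⟨a, ha⟩ := (shiftFunctor (Dual.D A) (1 : ℤ)).map_surjective (v ≫ e.inv)
    obtain ⟨b, hb'⟩ := hb.2 a
    refine ⟨b⟦(1 : ℤ)⟧' ≫ e.hom, ?_⟩
    show η⟦(1 : ℤ)⟧' ≫ b⟦(1 : ℤ)⟧' ≫ e.hom = v
    rw [← Category.assoc, ← Functor.map_comp, show η ≫ b = a from hb', ha, Category.assoc, Iso.inv_hom_id,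
      Category.comp_id]

theorem isDerivedComplete_obj₃ (T : Triangle (Dual.D A)) (hT : T ∈ distTriang _)
    (h₁ : DRing.IsDerivedComplete I T.obj₁) (h₂ : DRing.IsDerivedComplete I T.obj₂) :
    DRing.IsDerivedComplete I T.obj₃ := fun f hf n => by
  refine subsingleton_of_forall_eq 0 fun x => ?_
  let T' := (Triangle.shiftFunctor (Dual.D A) n).obj T
  have hT' : T' ∈ distTriang _ := Triangle.shift_distinguished _ hT n
  obtain ⟨y, hy⟩ := Triangle.coyoneda_exact₃ T' hT' x (by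
    haveI := isDerivedComplete_shift h₁ n f hf 1
    exact Subsingleton.elim (α := Dual.inD A (Localization.Away f) ⟶ (T.obj₁⟦n⟧)⟦(1 : ℤ)⟧) _ _)
  haveI := h₂ f hf n
  rw [hy, show y = 0 from Subsingleton.elim (α := Dual.inD A (Localization.Away f) ⟶ T.obj₂⟦n⟧) _ _, zero_comp]
  rfl

theorem isCompletion_obj₃ {T T' : Triangle (Dual.D A)} (hT : T ∈ distTriang _) (hT' : T' ∈ distTriang _)
    (φ : T ⟶ T') (h₁ : IsCompletion I φ.hom₁) (h₂ : IsCompletion I φ.hom₂) : IsCompletion I φ.hom₃ where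
  complete := isDerivedComplete_obj₃ T' hT' h₁.complete h₂.complete
  bij E hE := by
    refine ⟨fun a b hab => ?_, fun y => ?_⟩
    · rw [← sub_eq_zero]
      have hd : φ.hom₃ ≫ (a - b) = 0 := by rw [Preadditive.comp_sub, sub_eq_zero]; exact hab
      have h2 : T'.mor₂ ≫ (a - b) = 0 := (h₂.bij E hE).1 (show φ.hom₂ ≫ T'.mor₂ ≫ (a - b) = φ.hom₂ ≫ 0 by
        rw [comp_zero, ← Category.assoc, ← φ.comm₂, Category.assoc, hd, comp_zero])
      obtain ⟨w, hw⟩ := Triangle.yoneda_exact₃ T' hT' (a - b) h2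
      obtain ⟨v, hv⟩ := Triangle.yoneda_exact₃ T.rotate (rot_of_distTriang _ hT) (φ.hom₁⟦(1 : ℤ)⟧' ≫ w) (by
        show T.mor₃ ≫ φ.hom₁⟦(1 : ℤ)⟧' ≫ w = 0
        rw [← Category.assoc, φ.comm₃, Category.assoc, ← hw, hd])
      change T.obj₂⟦(1 : ℤ)⟧ ⟶ E at v
      obtain ⟨v', hv'⟩ := (h₂.bij_shift hE).2 v
      have hv2 : φ.hom₂⟦(1 : ℤ)⟧' ≫ v' = v := hv'
      have : w = -(T'.mor₁⟦(1 : ℤ)⟧' ≫ v') := (h₁.bij_shift hE).1 (by
        show φ.hom₁⟦(1 : ℤ)⟧' ≫ w = φ.hom₁⟦(1 : ℤ)⟧' ≫ _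
        refine hv.trans ?_
        show (-T.mor₁⟦(1 : ℤ)⟧') ≫ v = _
        rw [Preadditive.comp_neg, Preadditive.neg_comp, ← hv2, ← Category.assoc, ← Category.assoc,
          ← Functor.map_comp, ← Functor.map_comp, φ.comm₁])
      rw [hw, this, Preadditive.comp_neg, ← Category.assoc, comp_distTriang_mor_zero₃₁ T' hT', zero_comp,
        neg_zero]
    · obtain ⟨u, hu⟩ := (h₂.bij E hE).2 (T.mor₂ ≫ y)
      have hu' : φ.hom₂ ≫ u = T.mor₂ ≫ y := hu
      obtain ⟨z, hz⟩ := Triangle.yoneda_exact₂ T' hT' u ((h₁.bij E hE).1 (show φ.hom₁ ≫ T'.mor₁ ≫ u = φ.hom₁ ≫ 0 by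
        rw [comp_zero, ← Category.assoc, ← φ.comm₁, Category.assoc, hu', comp_distTriang_mor_zero₁₂_assoc T hT,
          zero_comp]))
      obtain ⟨v, hv⟩ := Triangle.yoneda_exact₃ T hT (y - φ.hom₃ ≫ z) (by
        rw [Preadditive.comp_sub, ← hu', hz, ← Category.assoc T.mor₂, φ.comm₂, Category.assoc, sub_self])
      obtain ⟨v', hv'⟩ := (h₁.bij_shift hE).2 v
      have hv2 : φ.hom₁⟦(1 : ℤ)⟧' ≫ v' = v := hv'
      refine ⟨z + T'.mor₃ ≫ v', ?_⟩
      show φ.hom₃ ≫ (z + T'.mor₃ ≫ v') = y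
      rw [Preadditive.comp_add, ← Category.assoc φ.hom₃ T'.mor₃, ← φ.comm₃, Category.assoc, hv2, ← hv]
      abel

/-- The triangle of completions on a morphism. -/
theorem exists_cone_completion [DRing.HasDerivedCompletion I] {K L : Dual.D A} (φ : K ⟶ L) :
    ∃ (C Z : Dual.D A) (p : L ⟶ C) (q : C ⟶ K⟦(1 : ℤ)⟧)
      (p' : ((DRing.derivedCompletion I).obj L).obj ⟶ Z)
      (q' : Z ⟶ (((DRing.derivedCompletion I).obj K).obj)⟦(1 : ℤ)⟧) (c : C ⟶ Z),
      Triangle.mk φ p q ∈ distTriang _ ∧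
      Triangle.mk ((DRing.derivedCompletion I).map φ).hom p' q' ∈ distTriang _ ∧ IsCompletion I c := by
  obtain ⟨C, p, q, hT⟩ := distinguished_cocone_triangle φ
  obtain ⟨Z, p', q', hT'⟩ := distinguished_cocone_triangle ((DRing.derivedCompletion I).map φ).hom
  have hsq : φ ≫ DRing.toDerivedCompletion I L =
      DRing.toDerivedCompletion I K ≫ ((DRing.derivedCompletion I).map φ).hom :=
    (DRing.derivedCompletionAdj I).unit.naturality φ
  obtain ⟨c, hc1, hc2⟩ := complete_distinguished_triangle_morphism _ _ hT hT'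
    (DRing.toDerivedCompletion I K) (DRing.toDerivedCompletion I L) hsq
  exact ⟨C, Z, p, q, p', q', c, hT, hT', isCompletion_obj₃ hT hT'
    { hom₁ := DRing.toDerivedCompletion I K, hom₂ := DRing.toDerivedCompletion I L, hom₃ := c
      comm₁ := hsq, comm₂ := hc1, comm₃ := hc2 } (isCompletion_unit K) (isCompletion_unit L)⟩

end Groth.Agent.H4DR.DComplete
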