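import Groth.Agent.H4DR.DComplete.Orthogonal
import Groth.Agent.H16Derived.ExactAdj
import Mathlib.Algebra.Category.ModuleCat.Monoidal.Closed
import Mathlib.Algebra.Category.ModuleCat.Descent
import Mathlib.Algebra.Homology.HomotopyCategory.KInjective

/-!
# K-injective complexes and `Hom(A_f, -)`
-/

set_option autoImplicit false
set_option linter.style.haveILetI false

universe u

open CategoryTheory CategoryTheory.Limits MonoidalCategory Pretriangulated
open Groth.Agent.H16Derived

attribute [local instance] HasDerivedCategory.standard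

namespace Groth.Agent.H4DR.DComplete

variable {A : Type u} [CommRing A]

/-- `A_f` as a module. -/
noncomputable abbrev loc (f : A) : ModuleCat.{u} A := ModuleCat.of A (Localization.Away f)

/-- `Hom(N, -)` is right adjoint to `N ⊗ -`. -/
noncomputable def tensHomAdj (N : ModuleCat.{u} A) : tensorLeft N ⊣ homF N :=
  (ihom.adjunction N).ofNatIsoRight (NatIso.ofComponents
    (fun M => (ModuleCat.homLinearEquiv (S := A) (M := N) (N := M)).toModuleIso)
    (fun _ => rfl))

lemma isKInjective_coind (f : A) (J : DRing.Cx A) [CochainComplex.IsKInjective J] :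
    CochainComplex.IsKInjective (coind (loc f) J) := by
  haveI : Module.Flat A (loc f) := IsLocalization.flat (Localization.Away f) (Submonoid.powers f)
  haveI : PreservesFiniteLimits (tensorLeft (loc f)) := inferInstance
  haveI : PreservesColimitsOfSize.{u, u} (tensorLeft (loc f)) := (tensHomAdj (loc f)).leftAdjoint_preservesColimits
  haveI : (tensorLeft (loc f)).Additive := inferInstance
  exact ExactAdj.isKInjective_map (tensHomAdj (loc f)) J

lemma isKInjective_cone {K L : DRing.Cx A} (φ : K ⟶ L) [CochainComplex.IsKInjective K]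
    [CochainComplex.IsKInjective L] : CochainComplex.IsKInjective (CochainComplex.mappingCone φ) := by
  rw [CochainComplex.isKInjective_iff_rightOrthogonal]
  exact ObjectProperty.ext_of_isTriangulatedClosed₃ _ (CochainComplex.mappingCone.triangleh φ)
    (HomotopyCategory.mappingCone_triangleh_distinguished φ)
    (CochainComplex.IsKInjective.rightOrthogonal K) (CochainComplex.IsKInjective.rightOrthogonal L)

lemma exists_Q_map_eq {P J : DRing.Cx A} [CochainComplex.IsKInjective J] (x : DRing.toD P ⟶ DRing.toD J) :
    ∃ g : P ⟶ J, DerivedCategory.Q.map g = x := by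
  obtain ⟨u, hu⟩ := (CochainComplex.IsKInjective.Qh_map_bijective ((HomotopyCategory.quotient _ _).obj P) J).2
    ((DerivedCategory.quotientCompQhIso _).hom.app P ≫ x ≫ (DerivedCategory.quotientCompQhIso _).inv.app J)
  obtain ⟨g, rfl⟩ := (HomotopyCategory.quotient _ _).map_surjective u
  refine ⟨g, (cancel_epi ((DerivedCategory.quotientCompQhIso _).hom.app P)).1 ?_⟩
  have hn := (DerivedCategory.quotientCompQhIso (ModuleCat.{u} A)).hom.naturality g
  rw [Functor.comp_map, hu, Category.assoc, Category.assoc, Iso.inv_hom_id_app, Category.comp_id] at hn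
  exact hn.symm

theorem subsingleton_hom_of_exactAt (N : ModuleCat.{u} A) (J : DRing.Cx A) [CochainComplex.IsKInjective J]
    (n : ℤ) (h : (coind N J).ExactAt n) : Subsingleton (Dual.inD A N ⟶ (DRing.toD J)⟦n⟧) := by
  haveI : Subsingleton (DRing.toD (Hom.sgl n N) ⟶ DRing.toD J) := by
    refine subsingleton_of_forall_eq 0 fun x => ?_
    obtain ⟨g, rfl⟩ := exists_Q_map_eq x
    rw [HomologicalComplex.exactAt_iff' _ (n - 1) n (n + 1) (by simp) (by simp),
      ShortComplex.moduleCat_exact_iff] at h
    let φ : N ⟶ J.X n := (HomologicalComplex.singleObjXSelf (ComplexShape.up ℤ) n N).inv ≫ g.f n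
    have hφ : φ ≫ J.d n (n + 1) = 0 := by
      rw [Category.assoc, g.comm, HomologicalComplex.single_obj_d, zero_comp, comp_zero]
    obtain ⟨(k : N →ₗ[A] J.X (n - 1)), (hk : (J.d (n - 1) n).hom ∘ₗ k = φ.hom)⟩ := h φ.hom
      (show (J.d n (n + 1)).hom ∘ₗ φ.hom = 0 from congrArg ModuleCat.Hom.hom hφ)
    let hh : ∀ i i', (ComplexShape.up ℤ).Rel i' i → ((Hom.sgl n N).X i ⟶ J.X i') := fun i i' hii =>
      if hi : i = n then
        (HomologicalComplex.singleObjXIsoOfEq (ComplexShape.up ℤ) n N i hi).hom ≫ ModuleCat.ofHom k ≫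
          (J.XIsoOfEq (show n - 1 = i' by have : i' + 1 = i := hii; omega)).hom
      else 0
    have e : g = Homotopy.nullHomotopicMap' hh := by
      refine HomologicalComplex.from_single_hom_ext ?_
      rw [Homotopy.nullHomotopicMap'_f (show (ComplexShape.up ℤ).Rel (n - 1) n by simp)
        (show (ComplexShape.up ℤ).Rel n (n + 1) by simp), HomologicalComplex.single_obj_d, zero_comp, zero_add]
      rw [← cancel_epi (HomologicalComplex.singleObjXSelf (ComplexShape.up ℤ) n N).inv]
      have hk' : ModuleCat.ofHom k ≫ J.d (n - 1) n = φ := ModuleCat.hom_ext hk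
      simp only [φ] at hk'
      simp [hh, HomologicalComplex.singleObjXSelf] at hk' ⊢
      exact hk'.symm
    rw [e, DerivedCategory.Q_map_eq_of_homotopy (h := Homotopy.nullHomotopy' hh), Functor.map_zero]
  haveI : Subsingleton ((Dual.inD A N)⟦-n⟧ ⟶ DRing.toD J) :=
    (Iso.homFromEquiv (Z := DRing.toD J) (Hom.shiftInDIso N n (-n) (by omega))).subsingleton_congr.2 this
  refine subsingleton_of_forall_eq 0 fun x => (shiftFunctor (Dual.D A) (-n)).map_injective ?_
  rw [Functor.map_zero,
    ← cancel_mono ((shiftFunctorCompIsoId (Dual.D A) n (-n) (by omega)).hom.app (DRing.toD J))]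
  exact Subsingleton.elim (α := (Dual.inD A N)⟦-n⟧ ⟶ DRing.toD J) _ _

/-- Completeness of a K-injective complex. -/
theorem acyclic_coind_iff (f : A) (J : DRing.Cx A) [CochainComplex.IsKInjective J] :
    (coind (loc f) J).Acyclic ↔ ∀ n : ℤ, Subsingleton (Dual.inD A (Localization.Away f) ⟶ (DRing.toD J)⟦n⟧) :=
  ⟨fun h n => subsingleton_hom_of_exactAt (loc f) J n (h n), fun h => exactAt_coind (loc f) J h⟩

/-- Evaluation at `1`. -/
noncomputable def evF (f : A) : homF (loc f) ⟶ 𝟭 (ModuleCat.{u} A) where
  app _ := ModuleCat.ofHom (LinearMap.applyₗ (1 : Localization.Away f))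
  naturality _ _ _ := rfl

lemma smul_bijective_homF (f : A) (M : ModuleCat.{u} A) :
    Function.Bijective (fun x : (homF (loc f)).obj M => f • x) := by
  let m : Localization.Away f →ₗ[A] Localization.Away f :=
    (LinearMap.mulLeft A (IsLocalization.Away.invSelf f))
  have h1 : ∀ x : Localization.Away f, f • m x = x := fun x => by
    show f • (IsLocalization.Away.invSelf f * x) = x
    rw [Algebra.smul_def, ← mul_assoc, IsLocalization.Away.mul_invSelf, one_mul]
  refine ⟨fun (u v : loc f →ₗ[A] M) huv => LinearMap.ext fun x => ?_, fun (v : loc f →ₗ[A] M) => ⟨v ∘ₗ m, ?_⟩⟩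
  · have := LinearMap.congr_fun (show f • u = f • v from huv) (m x)
    rw [LinearMap.smul_apply, LinearMap.smul_apply] at this
    rw [← h1 x, map_smul, map_smul]
    exact this
  · refine LinearMap.ext fun x => ?_
    show f • v (m x) = v x
    rw [← map_smul, h1]

lemma isIso_evF_app (f : A) (M : ModuleCat.{u} A) (hM : Function.Bijective (fun x : M => f • x)) :
    IsIso ((evF f).app M) := by
  have hunit : ∀ x : Submonoid.powers f, IsUnit ((algebraMap A (Module.End A M)) x) := by
    rintro ⟨_, n, rfl⟩
    have h1 : IsUnit (algebraMap A (Module.End A M) f) := (Module.End.isUnit_iff _).2 hM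
    simpa using h1.pow n
  have hbij : Function.Bijective ((evF f).app M).hom := by
    refine ⟨fun (u v : Localization.Away f →ₗ[A] M) (huv : u 1 = v 1) => ?_, fun x => ?_⟩
    · refine IsLocalizedModule.ext (Submonoid.powers f) (Algebra.linearMap A (Localization.Away f)) hunit ?_
      ext
      simpa using huv
    · refine ⟨IsLocalizedModule.lift (Submonoid.powers f) (Algebra.linearMap A (Localization.Away f))
        (LinearMap.toSpanSingleton A M x) hunit, ?_⟩
      have := IsLocalizedModule.lift_apply (Submonoid.powers f) (Algebra.linearMap A (Localization.Away f))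
        (LinearMap.toSpanSingleton A M x) hunit 1
      simp only [Algebra.linearMap_apply, map_one, LinearMap.toSpanSingleton_apply_one] at this
      exact this
  exact (ConcreteCategory.isIso_iff_bijective _).2 hbij

/-- Swapping arguments. -/
noncomputable def flipIso (N N' : ModuleCat.{u} A) : homF N ⋙ homF N' ≅ homF N' ⋙ homF N :=
  NatIso.ofComponents (fun M =>
    (LinearMap.lflip : (N' →ₗ[A] N →ₗ[A] M) ≃ₗ[A] (N →ₗ[A] N' →ₗ[A] M)).toModuleIso) (fun _ => rfl)

end Groth.Agent.H4DR.DComplete
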