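import Groth.Agent.H4DR.DComplete.Elem
import Groth.Agent.H4DR.Hom.Basic
import Groth.Prelude.Def_DRing3
import Mathlib.Algebra.Homology.DerivedCategory.SingleTriangle
import Mathlib.RingTheory.Localization.Away.Basic

/-!
# Derived completeness is a condition on cohomology modules
-/

set_option autoImplicit false
set_option linter.style.haveILetI false

universe u

open CategoryTheory CategoryTheory.Limits Pretriangulated
open Groth.Agent.H16Derived

attribute [local instance] HasDerivedCategory.standard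

namespace Groth.Agent.H4DR.DComplete

variable {A : Type u} [CommRing A]

/-- The map on `H^0` of a morphism out of a module in degree `0`. -/
noncomputable def homH (F : ModuleCat.{u} A) {L : Dual.D A} (x : Dual.inD A F ⟶ L) : F ⟶ (PCoh.H A 0).obj L :=
  (DerivedCategory.singleFunctorCompHomologyFunctorIso (ModuleCat.{u} A) 0).inv.app F ≫
    (DerivedCategory.homologyFunctor (ModuleCat.{u} A) 0).map x

lemma homH_comp (F : ModuleCat.{u} A) {L L' : Dual.D A} (x : Dual.inD A F ⟶ L) (φ : L ⟶ L') :
    homH F (x ≫ φ) = homH F x ≫ (DerivedCategory.homologyFunctor (ModuleCat.{u} A) 0).map φ := by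
  simp [homH]

lemma homH_precomp {F G : ModuleCat.{u} A} (g : F ⟶ G) {L : Dual.D A} (x : Dual.inD A G ⟶ L) :
    homH F ((DerivedCategory.singleFunctor (ModuleCat.{u} A) 0).map g ≫ x) = g ≫ homH G x := by
  have := (DerivedCategory.singleFunctorCompHomologyFunctorIso (ModuleCat.{u} A) 0).inv.naturality g
  simp only [Functor.id_map, Functor.comp_map] at this
  show _ ≫ (DerivedCategory.homologyFunctor (ModuleCat.{u} A) 0).map
    ((DerivedCategory.singleFunctor (ModuleCat.{u} A) 0).map g ≫ x) = g ≫ _ ≫ _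
  rw [Functor.map_comp]
  exact (Category.assoc _ _ _).symm.trans ((congrArg (· ≫ _) this.symm).trans (Category.assoc _ _ _))

theorem bijective_homH (F : ModuleCat.{u} A) [Module.Projective A F] (L : Dual.D A) :
    Function.Bijective (homH F (L := L)) := by
  suffices hP : ∀ P : DRing.Cx A, Function.Bijective (homH F (L := DRing.toD P)) by
    let P := DerivedCategory.Q.objPreimage L
    let e : DRing.toD P ≅ L := DerivedCategory.Q.objObjPreimageIso L
    let H := (DerivedCategory.homologyFunctor (ModuleCat.{u} A) 0).mapIso e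
    have : (homH F (L := L)) = Iso.homToEquiv H ∘ homH F ∘ (Iso.homToEquiv e).symm := by
      funext x
      show _ = homH F (x ≫ e.inv) ≫ _
      rw [homH_comp, Category.assoc]
      simp [H]
    rw [this]
    exact (Equiv.bijective _).comp ((hP P).comp (Equiv.bijective _))
  intro P
  haveI : CategoryTheory.Projective F := (IsProjective.iff_projective F).1 inferInstance
  let S : DRing.Cx A := (HomologicalComplex.single (ModuleCat.{u} A) (ComplexShape.up ℤ) 0).obj F
  haveI : CochainComplex.IsStrictlyLE S 0 := (CochainComplex.isStrictlyLE_iff _ _).2 fun j hj =>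
    HomologicalComplex.isZero_single_obj_X (ComplexShape.up ℤ) 0 F j (by omega)
  haveI : ∀ j, CategoryTheory.Projective (S.X j) := fun j => by
    by_cases hj : j = 0
    · subst hj
      exact Projective.of_iso (HomologicalComplex.singleObjXSelf (ComplexShape.up ℤ) 0 F).symm inferInstance
    · exact (HomologicalComplex.isZero_single_obj_X (ComplexShape.up ℤ) 0 F j hj).projective
  haveI := CochainComplex.isKProjective_of_projective S 0
  let j : Dual.inD A F ≅ DRing.toD S := (DerivedCategory.singleFunctorIsoCompQ (ModuleCat.{u} A) 0).app F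
  let η₀ := DerivedCategory.homologyFunctorFactors (ModuleCat.{u} A) 0
  let η : ∀ Q : DRing.Cx A, (PCoh.H A 0).obj (DRing.toD Q) ≅ Q.homology 0 := fun Q => η₀.app Q
  let α : F ⟶ S.homology 0 := (DerivedCategory.singleFunctorCompHomologyFunctorIso (ModuleCat.{u} A) 0).inv.app F ≫
    (DerivedCategory.homologyFunctor (ModuleCat.{u} A) 0).map j.hom ≫ (η S).hom
  haveI : IsIso α := ((DerivedCategory.singleFunctorCompHomologyFunctorIso (ModuleCat.{u} A) 0).symm.app F ≪≫
    (DerivedCategory.homologyFunctor (ModuleCat.{u} A) 0).mapIso j ≪≫ η S).isIso_hom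
  have key : ∀ g : S ⟶ P, homH F (j.hom ≫ DerivedCategory.Q.map g) =
      α ≫ HomologicalComplex.homologyMap g 0 ≫ (η P).inv := fun g => by
    have h1 : (DerivedCategory.homologyFunctor (ModuleCat.{u} A) 0).map (DerivedCategory.Q.map g) =
        (η S).hom ≫ HomologicalComplex.homologyMap g 0 ≫ (η P).inv := by
      refine Eq.trans ?_ (Category.assoc _ _ _)
      exact (Iso.eq_comp_inv (η P)).2 (η₀.hom.naturality g)
    simp only [homH, Functor.map_comp, h1, α]
    exact congrArg (_ ≫ ·) (Category.assoc _ _ _).symm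
  refine ⟨fun x x' hx => ?_, fun ψ => ?_⟩
  · obtain ⟨g, hg⟩ := ProjLift.Q_map_surjective S P (j.inv ≫ x)
    obtain ⟨g', hg'⟩ := ProjLift.Q_map_surjective S P (j.inv ≫ x')
    have h0 : HomologicalComplex.homologyMap (g - g') 0 = 0 := by
      have := hx
      rw [← Iso.hom_inv_id_assoc j x, ← Iso.hom_inv_id_assoc j x', ← hg, ← hg', key, key,
        cancel_epi, cancel_mono] at this
      rw [HomologicalComplex.homologyMap_sub, this, sub_self]
    suffices hq : DerivedCategory.Q.map (g - g') = 0 by
      rw [Functor.map_sub, sub_eq_zero, hg, hg'] at hq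
      exact (cancel_epi j.inv).1 hq
    set d := g - g'
    let k : F ⟶ P.cycles 0 :=
      (HomologicalComplex.singleObjCyclesSelfIso (ComplexShape.up ℤ) 0 F).inv ≫
        HomologicalComplex.cyclesMap d 0
    have hk : k ≫ P.homologyπ 0 = 0 := by
      rw [Category.assoc, ← HomologicalComplex.homologyπ_naturality, h0, comp_zero, comp_zero]
    have hex : (ShortComplex.mk (P.toCycles (-1) 0) (P.homologyπ 0)
        (P.toCycles_comp_homologyπ (-1) 0)).Exact :=
      ShortComplex.exact_of_g_is_cokernel _ (P.homologyIsCokernel (-1) 0 (by simp))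
    haveI : CategoryTheory.Projective (ModuleCat.of A F) := ‹_›
    let l : F ⟶ P.X (-1) := hex.liftFromProjective k hk
    have hl : l ≫ P.toCycles (-1) 0 = k := hex.liftFromProjective_comp k hk
    let hh : ∀ i i', (ComplexShape.up ℤ).Rel i' i → (S.X i ⟶ P.X i') := fun i i' hii =>
      if hi : i = 0 then
        (HomologicalComplex.singleObjXIsoOfEq (ComplexShape.up ℤ) 0 F i hi).hom ≫ l ≫
          (P.XIsoOfEq (show -1 = i' by have : i' + 1 = i := hii; omega)).hom
      else 0
    have e : d = Homotopy.nullHomotopicMap' hh := by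
      refine HomologicalComplex.from_single_hom_ext ?_
      rw [Homotopy.nullHomotopicMap'_f (show (ComplexShape.up ℤ).Rel (-1) 0 by simp)
        (show (ComplexShape.up ℤ).Rel 0 1 by simp), HomologicalComplex.single_obj_d, zero_comp, zero_add]
      have h2 := congrArg (fun t => t ≫ P.iCycles 0) hl
      simp only [k, Category.assoc, HomologicalComplex.toCycles_i, HomologicalComplex.cyclesMap_i] at h2
      rw [← Category.assoc, HomologicalComplex.singleObjCyclesSelfIso_inv_iCycles] at h2
      simp only [hh, dif_pos, Category.assoc]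
      rw [← cancel_epi (HomologicalComplex.singleObjXSelf (ComplexShape.up ℤ) 0 F).inv]
      simp [HomologicalComplex.singleObjXSelf] at h2 ⊢
      exact h2.symm
    rw [e, DerivedCategory.Q_map_eq_of_homotopy (h := Homotopy.nullHomotopy' hh), Functor.map_zero]
  · let ψ' : F ⟶ P.homology 0 := ψ ≫ (η P).hom
    let γ : F ⟶ F := α ≫ (HomologicalComplex.singleObjHomologySelfIso (ComplexShape.up ℤ) 0 F).hom
    haveI : IsIso γ := IsIso.comp_isIso
    let k : F ⟶ P.cycles 0 := Projective.factorThru (inv γ ≫ ψ') (P.homologyπ 0)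
    have hk : k ≫ P.homologyπ 0 = inv γ ≫ ψ' := Projective.factorThru_comp _ _
    let g : S ⟶ P := HomologicalComplex.mkHomFromSingle (k ≫ P.iCycles 0) fun i _ => by
      rw [Category.assoc, HomologicalComplex.iCycles_d, comp_zero]
    have hc : HomologicalComplex.cyclesMap g 0 =
        (HomologicalComplex.singleObjCyclesSelfIso (ComplexShape.up ℤ) 0 F).hom ≫ k := by
      rw [← cancel_mono (P.iCycles 0), HomologicalComplex.cyclesMap_i, HomologicalComplex.mkHomFromSingle_f,
        HomologicalComplex.singleObjCyclesSelfIso_hom]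
      simp
      rfl
    have hh : HomologicalComplex.homologyMap g 0 =
        (HomologicalComplex.singleObjHomologySelfIso (ComplexShape.up ℤ) 0 F).hom ≫ inv γ ≫ ψ' := by
      rw [← cancel_epi (S.homologyπ 0), HomologicalComplex.homologyπ_naturality, hc, Category.assoc, hk,
        HomologicalComplex.homologyπ_singleObjHomologySelfIso_hom_assoc]
    refine ⟨j.hom ≫ DerivedCategory.Q.map g, ?_⟩
    rw [key, hh]
    simp only [← Category.assoc]
    show (((γ ≫ inv γ) ≫ ψ') ≫ (η P).inv) = ψ
    rw [IsIso.hom_inv_id, Category.id_comp, Category.assoc, Iso.hom_inv_id, Category.comp_id]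

/-- `e_k ↦ e_k - f e_{k+1}`. -/
noncomputable def uMap (f : A) : (ℕ →₀ A) →ₗ[A] (ℕ →₀ A) :=
  LinearMap.id - f • Finsupp.lmapDomain A A Nat.succ

/-- `e_k ↦ 1 / f^k`. -/
noncomputable def πMap (f : A) : (ℕ →₀ A) →ₗ[A] Localization.Away f :=
  Finsupp.linearCombination A fun k => IsLocalization.Away.invSelf f ^ k

lemma uMap_single (f : A) (k : ℕ) (a : A) :
    uMap f (Finsupp.single k a) = Finsupp.single k a - Finsupp.single (k + 1) (f * a) := by
  simp [uMap]

lemma πMap_single (f : A) (k : ℕ) (a : A) :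
    πMap f (Finsupp.single k a) = a • (IsLocalization.Away.invSelf f : Localization.Away f) ^ k :=
  Finsupp.linearCombination_single _ _ _

lemma inv_smul (f : A) (k : ℕ) :
    (IsLocalization.Away.invSelf f : Localization.Away f) ^ k =
      f • (IsLocalization.Away.invSelf f : Localization.Away f) ^ (k + 1) := by
  rw [Algebra.smul_def, pow_succ', ← mul_assoc, IsLocalization.Away.mul_invSelf, one_mul]

lemma shortExact_resolution (f : A) :
    Function.Exact (uMap f) (πMap f) ∧ Function.Injective (uMap f) ∧ Function.Surjective (πMap f) := by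
  classical
  have hcomp : πMap f ∘ₗ uMap f = 0 := by
    refine Finsupp.lhom_ext fun k a => ?_
    rw [LinearMap.comp_apply, uMap_single, map_sub, πMap_single, πMap_single, mul_comm, mul_smul,
      ← inv_smul, sub_self]
    rfl
  have hsplit : ∀ x : ℕ →₀ A, ∃ N₀, ∀ N, N₀ ≤ N → ∃ a,
      x - Finsupp.single N a ∈ LinearMap.range (uMap f) := by
    intro x
    induction x using Finsupp.induction_linear with
    | zero => exact ⟨0, fun N _ => ⟨0, by simp⟩⟩
    | add x y hx hy =>
      obtain ⟨N₁, h₁⟩ := hx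
      obtain ⟨N₂, h₂⟩ := hy
      refine ⟨max N₁ N₂, fun N hN => ?_⟩
      obtain ⟨a, ha⟩ := h₁ N (le_of_max_le_left hN)
      obtain ⟨b, hb⟩ := h₂ N (le_of_max_le_right hN)
      refine ⟨a + b, ?_⟩
      rw [Finsupp.single_add, add_sub_add_comm]
      exact add_mem ha hb
    | single k a =>
      refine ⟨k, fun N hN => ?_⟩
      induction N, hN using Nat.le_induction with
      | base => exact ⟨a, by simp⟩
      | succ N _ ih =>
        obtain ⟨b, hb⟩ := ih
        refine ⟨f * b, ?_⟩
        rw [← sub_add_sub_cancel _ (Finsupp.single N b) _]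
        exact add_mem hb ⟨_, uMap_single f N b⟩
  refine ⟨fun x => ⟨fun hx => ?_, fun ⟨y, hy⟩ => hy ▸ congr($hcomp y)⟩,
    (injective_iff_map_eq_zero _).2 fun x hx => ?_, fun z => ?_⟩
  · obtain ⟨N₀, hN⟩ := hsplit x
    obtain ⟨a, y, hy⟩ := hN N₀ le_rfl
    have hy' : πMap f (uMap f y) = 0 := congr($hcomp y)
    rw [hy, map_sub, hx, zero_sub, neg_eq_zero, πMap_single, Algebra.smul_def] at hy'
    have : algebraMap A (Localization.Away f) a = 0 := by
      have := congrArg (· * algebraMap A (Localization.Away f) f ^ N₀) hy'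
      simp only [zero_mul] at this
      rw [mul_assoc, ← mul_pow, mul_comm (IsLocalization.Away.invSelf f), IsLocalization.Away.mul_invSelf,
        one_pow, mul_one] at this
      exact this
    obtain ⟨⟨_, m, rfl⟩, hm⟩ := (IsLocalization.map_eq_zero_iff (Submonoid.powers f) _ _).1 this
    have h' : ∀ i, Finsupp.single N₀ a - Finsupp.single (N₀ + i) (f ^ i * a) ∈ LinearMap.range (uMap f) := by
      intro i
      induction i with
      | zero => simp
      | succ i ih =>
        rw [← sub_add_sub_cancel _ (Finsupp.single (N₀ + i) (f ^ i * a)) _, pow_succ', mul_assoc]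
        exact add_mem ih ⟨_, uMap_single f (N₀ + i) (f ^ i * a)⟩
    have h0 := h' m
    simp only at hm
    rw [hm, Finsupp.single_zero, sub_zero] at h0
    have : x = uMap f y + Finsupp.single N₀ a := (sub_eq_iff_eq_add.1 hy.symm)
    rw [this]
    exact add_mem (LinearMap.mem_range_self _ y) h0
  · have hc : ∀ k, x k - f * (Finsupp.mapDomain Nat.succ x) k = 0 := fun k => by
      have := DFunLike.congr_fun hx k
      simpa [uMap] using this
    ext k
    induction k with
    | zero =>
      have := hc 0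
      rwa [Finsupp.mapDomain_of_notMem_range _ _ (by simp), mul_zero, sub_zero] at this
    | succ k ih =>
      have := hc (k + 1)
      rwa [Finsupp.mapDomain_apply Nat.succ_injective, ih, Finsupp.coe_zero, Pi.zero_apply, mul_zero,
        sub_zero] at this
  · obtain ⟨n, a, rfl⟩ : ∃ (n : ℕ) (a : A), z = a • (IsLocalization.Away.invSelf f) ^ n := by
      obtain ⟨n, a, h⟩ := IsLocalization.Away.surj f z
      refine ⟨n, a, ?_⟩
      rw [Algebra.smul_def, ← h, mul_assoc, ← mul_pow, IsLocalization.Away.mul_invSelf, one_pow, mul_one]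
    exact ⟨Finsupp.single n a, πMap_single f n a⟩

lemma bijective_precomp_uMap (f : A) (M : ModuleCat.{u} A) :
    Function.Bijective (fun g : ModuleCat.of A (ℕ →₀ A) ⟶ M => ModuleCat.ofHom (uMap f) ≫ g) ↔ Bij f M := by
  let E : (ModuleCat.of A (ℕ →₀ A) ⟶ M) ≃ (ℕ → M) :=
    ModuleCat.homEquiv.trans (Finsupp.lift M A ℕ).symm.toEquiv
  have hE : ∀ g k, E g k = g.hom (Finsupp.single k 1) := fun g k => by
    simp [E]
    rfl
  have : (T f M : (ℕ → M) → (ℕ → M)) =
      E ∘ (fun g : ModuleCat.of A (ℕ →₀ A) ⟶ M => ModuleCat.ofHom (uMap f) ≫ g) ∘ E.symm := by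
    funext m k
    obtain ⟨g, rfl⟩ := E.surjective m
    simp only [Function.comp_apply, Equiv.symm_apply_apply, T_apply, hE]
    show _ = g.hom (uMap f (Finsupp.single k 1))
    rw [uMap_single, map_sub, ← smul_eq_mul f (1 : A),
      ← Finsupp.smul_single, map_smul]
  unfold Bij
  rw [this, E.comp_bijective, E.symm.bijective_comp]

/-- Vanishing of maps out of the third object of a triangle. -/
theorem subsingleton_iff_bijective {C : Type*} [Category C] [HasZeroObject C] [HasShift C ℤ] [Preadditive C]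
    [∀ n : ℤ, (shiftFunctor C n).Additive] [Pretriangulated C] (Tr : Triangle C) (hT : Tr ∈ distTriang C)
    (W : C) :
    (∀ n : ℤ, Subsingleton (Tr.obj₃ ⟶ W⟦n⟧)) ↔
      ∀ n : ℤ, Function.Bijective (fun x : Tr.obj₂ ⟶ W⟦n⟧ => Tr.mor₁ ≫ x) := by
  constructor
  · intro h n
    refine ⟨fun x x' hx => ?_, fun y => ?_⟩
    · obtain ⟨z, hz⟩ := Triangle.yoneda_exact₂ Tr hT (x - x') (by
        rw [Preadditive.comp_sub, sub_eq_zero]; exact hx)
      haveI := h n
      rw [← sub_eq_zero, hz, Subsingleton.elim z 0, comp_zero]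
    · haveI := h (n + 1)
      haveI : Subsingleton ((Tr.obj₃)⟦(-1 : ℤ)⟧ ⟶ W⟦n⟧) := by
        refine subsingleton_of_forall_eq 0 fun φ => (shiftFunctor C (1 : ℤ)).map_injective ?_
        rw [Functor.map_zero, ← cancel_epi ((shiftFunctorCompIsoId C (-1 : ℤ) 1 (by omega)).inv.app Tr.obj₃),
          ← cancel_mono ((shiftFunctorAdd C n 1).app W).inv]
        exact Subsingleton.elim (α := Tr.obj₃ ⟶ W⟦n + 1⟧) _ _
      obtain ⟨z, hz⟩ := Triangle.yoneda_exact₂ Tr.invRotate (inv_rot_of_distTriang _ hT) y
        (Subsingleton.elim (α := (Tr.obj₃)⟦(-1 : ℤ)⟧ ⟶ W⟦n⟧) _ _)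
      exact ⟨z, hz.symm⟩
  · intro h n
    refine subsingleton_of_forall_eq 0 fun x => ?_
    obtain ⟨y, hy⟩ := Triangle.yoneda_exact₃ Tr hT x ((h n).1 (by
      show Tr.mor₁ ≫ Tr.mor₂ ≫ x = Tr.mor₁ ≫ 0
      rw [comp_distTriang_mor_zero₁₂_assoc _ hT, zero_comp, comp_zero]))
    let e : (W⟦n - 1⟧)⟦(1 : ℤ)⟧ ≅ W⟦n⟧ := ((shiftFunctorAdd' C (n - 1) 1 n (by omega)).app W).symm
    obtain ⟨y', hy'⟩ := (shiftFunctor C (1 : ℤ)).map_surjective (y ≫ e.inv)
    obtain ⟨z, rfl⟩ := (h (n - 1)).2 y'
    rw [hy, show y = (y ≫ e.inv) ≫ e.hom by simp, ← hy']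
    show Tr.mor₃ ≫ (Tr.mor₁ ≫ z)⟦(1 : ℤ)⟧' ≫ e.hom = 0
    rw [Functor.map_comp, Category.assoc, comp_distTriang_mor_zero₃₁_assoc _ hT, zero_comp]

/-- Vanishing of maps out of `A_f` in terms of cohomology modules. -/
theorem subsingleton_hom_iff (f : A) (K : Dual.D A) :
    (∀ n : ℤ, Subsingleton (Dual.inD A (Localization.Away f) ⟶ K⟦n⟧)) ↔
      ∀ n : ℤ, Bij f (Dual.HD A K n) := by
  let Sq : ShortComplex (ModuleCat.{u} A) := ShortComplex.mk (ModuleCat.ofHom (uMap f))
    (ModuleCat.ofHom (πMap f))
    (ModuleCat.hom_ext (LinearMap.ext fun x => ((shortExact_resolution f).1 (uMap f x)).2 ⟨x, rfl⟩))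
  have hS : Sq.ShortExact :=
    { exact := (ShortComplex.ShortExact.moduleCat_exact_iff_function_exact Sq).2 (shortExact_resolution f).1
      mono_f := (ModuleCat.mono_iff_injective _).2 (shortExact_resolution f).2.1
      epi_g := (ModuleCat.epi_iff_surjective _).2 (shortExact_resolution f).2.2 }
  let F : ModuleCat.{u} A := ModuleCat.of A (ℕ →₀ A)
  let u := (DerivedCategory.singleFunctor (ModuleCat.{u} A) 0).map (ModuleCat.ofHom (uMap f))
  have hiff : ∀ L : Dual.D A, Function.Bijective (fun x : Dual.inD A F ⟶ L => u ≫ x) ↔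
      Bij f (Dual.HD A L 0) := fun L => by
    rw [← bijective_precomp_uMap f ((PCoh.H A 0).obj L)]
    let E := Equiv.ofBijective _ (bijective_homH F L)
    have : (fun g : F ⟶ (PCoh.H A 0).obj L => ModuleCat.ofHom (uMap f) ≫ g) =
        E ∘ (fun x : Dual.inD A F ⟶ L => u ≫ x) ∘ E.symm := by
      funext g
      obtain ⟨x, rfl⟩ := E.surjective g
      simp only [Function.comp_apply, Equiv.symm_apply_apply]
      exact (homH_precomp (ModuleCat.ofHom (uMap f)) x).symm
    show _ ↔ Function.Bijective (fun g : F ⟶ (PCoh.H A 0).obj L => ModuleCat.ofHom (uMap f) ≫ g)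
    rw [this, E.comp_bijective, E.symm.bijective_comp]
  have hH : ∀ n, Bij f (Dual.HD A (K⟦n⟧) 0) ↔ Bij f (Dual.HD A K n) := fun n =>
    bij_congr (PCoh.hShift K n 0 n (add_zero n))
  exact (subsingleton_iff_bijective hS.singleTriangle hS.singleTriangle_distinguished K).trans
    (forall_congr' fun n => (hiff _).trans (hH n))

theorem isDerivedComplete_iff (I : Ideal A) (K : Dual.D A) :
    DRing.IsDerivedComplete I K ↔ ∀ f ∈ I, ∀ n : ℤ, Bij f (Dual.HD A K n) :=
  forall₂_congr fun f _ => subsingleton_hom_iff f K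

theorem isDerivedComplete_inD_iff (I : Ideal A) (M : Type u) [AddCommGroup M] [Module A M] :
    DRing.IsDerivedComplete I (Dual.inD A M) ↔ ∀ f ∈ I, Bij f M := by
  rw [isDerivedComplete_iff]
  let e : Dual.HD A (Dual.inD A M) 0 ≃ₗ[A] M :=
    ((DerivedCategory.singleFunctorCompHomologyFunctorIso (ModuleCat.{u} A) 0).app
      (ModuleCat.of A M)).toLinearEquiv
  refine forall₂_congr fun f _ => ⟨fun h => (h 0).of_equiv e, fun h n => ?_⟩
  by_cases hn : n = 0
  · subst hn
    exact h.of_equiv e.symm
  · haveI := PCoh.subsingleton_HD_inD (ModuleCat.of A M) n hn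
    exact bij_of_subsingleton

end Groth.Agent.H4DR.DComplete
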