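import Groth.Agent.H4DR.DComplete.Completion

/-!
# Universal properties of derived completion
-/

set_option autoImplicit false
set_option linter.style.haveILetI false

universe u

open CategoryTheory CategoryTheory.Limits Pretriangulated

attribute [local instance] HasDerivedCategory.standard

namespace Groth.Agent.H4DR.DComplete

variable {A : Type u} [CommRing A] {I : Ideal A}

/-- `η` exhibits `X` as a derived completion of `K`. -/
structure IsCompletion (I : Ideal A) {K X : Dual.D A} (η : K ⟶ X) : Prop where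
  complete : DRing.IsDerivedComplete I X
  bij : ∀ E : Dual.D A, DRing.IsDerivedComplete I E → Function.Bijective (fun φ : X ⟶ E => η ≫ φ)

theorem isCompletion_unit [DRing.HasDerivedCompletion I] (K : Dual.D A) :
    IsCompletion I (DRing.toDerivedCompletion I K) where
  complete := ((DRing.derivedCompletion I).obj K).property
  bij E hE := by
    have h := ((DRing.derivedCompletionAdj I).homEquiv K ⟨E, hE⟩).bijective
    have heq : (fun φ : ((DRing.derivedCompletion I).obj K).obj ⟶ E => DRing.toDerivedCompletion I K ≫ φ) =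
        ((DRing.derivedCompletionAdj I).homEquiv K ⟨E, hE⟩) ∘ ObjectProperty.homMk := by
      funext φ
      exact ((DRing.derivedCompletionAdj I).homEquiv_unit K ⟨E, hE⟩ (ObjectProperty.homMk φ)).symm
    rw [heq]
    exact h.comp ⟨fun a b hab => congrArg (fun t : ((DRing.derivedCompletion I).obj K ⟶
      (⟨E, hE⟩ : DRing.DComp I)) => t.hom) hab, fun t => ⟨t.hom, rfl⟩⟩

theorem IsCompletion.exists_iso {K X X' : Dual.D A} {η : K ⟶ X} {η' : K ⟶ X'}
    (h : IsCompletion I η) (h' : IsCompletion I η') : ∃ e : X ≅ X', η ≫ e.hom = η' := by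
  obtain ⟨f, hf⟩ := (h.bij X' h'.complete).2 η'
  obtain ⟨g, hg⟩ := (h'.bij X h.complete).2 η
  have hf' : η ≫ f = η' := hf
  have hg' : η' ≫ g = η := hg
  refine ⟨⟨f, g, (h.bij X h.complete).1 ?_, (h'.bij X' h'.complete).1 ?_⟩, hf'⟩
  · show η ≫ f ≫ g = η ≫ 𝟙 X
    rw [← Category.assoc, hf', hg', Category.comp_id]
  · show η' ≫ g ≫ f = η' ≫ 𝟙 X'
    rw [← Category.assoc, hg', hf', Category.comp_id]

theorem IsCompletion.of_iso {K K' X X' : Dual.D A} {η : K ⟶ X} (h : IsCompletion I η) (eK : K ≅ K')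
    (eX : X ≅ X') : IsCompletion I (eK.inv ≫ η ≫ eX.hom) where
  complete := isDerivedComplete_of_iso eX h.complete
  bij E hE := by
    have heq : (fun φ : X' ⟶ E => (eK.inv ≫ η ≫ eX.hom) ≫ φ) =
        (fun ψ : K ⟶ E => eK.inv ≫ ψ) ∘ (fun φ : X ⟶ E => η ≫ φ) ∘ (fun φ : X' ⟶ E => eX.hom ≫ φ) := by
      funext φ
      simp
    rw [heq]
    exact (Iso.homFromEquiv (Z := E) eK).bijective.comp ((h.bij E hE).comp
      (Iso.homFromEquiv (Z := E) eX).symm.bijective)

/-- Bounds on derived completion. -/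
theorem IsCompletion.bounds {K X : Dual.D A} {η : K ⟶ X} (s : Finset A)
    (h : IsCompletion (Ideal.span (s : Set A)) η) :
    (∀ a : ℤ, (∀ j, j < a → Subsingleton (Dual.HD A K j)) →
      ∀ j, j < a - s.card → Subsingleton (Dual.HD A X j)) ∧
    (∀ b : ℤ, (∀ j, b < j → Subsingleton (Dual.HD A K j)) →
      ∀ j, b < j → Subsingleton (Dual.HD A X j)) := by
  obtain ⟨J, η', hJ, hac, hbij, ha, hb⟩ := exists_completion s K
  haveI := hJ
  obtain ⟨e, -⟩ := h.exists_iso (η' := η') ⟨isDerivedComplete_of_acyclic_coind s J hac, hbij⟩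
  exact ⟨fun a hK j hj =>
      haveI := ha a hK j hj
      (PCoh.hEquiv j e).injective.subsingleton,
    fun b hK j hj =>
      haveI := hb b hK j hj
      (PCoh.hEquiv j e).injective.subsingleton⟩

end Groth.Agent.H4DR.DComplete
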