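import Groth.Agent.H4DR.DComplete.Completion
import Groth.Prelude.Def_DDual2

/-!
# Derived completeness and `D(A_f)`
-/

set_option autoImplicit false
set_option linter.style.haveILetI false

universe u

open CategoryTheory CategoryTheory.Limits

attribute [local instance] HasDerivedCategory.standard

namespace Groth.Agent.H4DR.DComplete

variable {A : Type u} [CommRing A]

theorem hom_from_away_iff (f : A) (K : Dual.D A) :
    (∀ n : ℤ, Subsingleton (Dual.inD A (Localization.Away f) ⟶ K⟦n⟧)) ↔
      ∀ E : Dual.D (Localization.Away f),
        Subsingleton ((DRing.restrictD (algebraMap A (Localization.Away f))).obj E ⟶ K) := by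
  let φ := algebraMap A (Localization.Away f)
  let R := ModuleCat.restrictScalars.{u} φ
  constructor
  · intro h E
    have hK : DRing.IsDerivedComplete (Ideal.span {f}) K :=
      (isDerivedComplete_span_iff _ K).2 fun g hg => by
        rw [Set.mem_singleton_iff.1 hg]; exact (subsingleton_hom_iff f K).1 h
    let P := DerivedCategory.Q.objPreimage E
    let e : (DRing.restrictD φ).obj E ≅ DRing.toD ((R.mapHomologicalComplex (ComplexShape.up ℤ)).obj P) :=
      (DRing.restrictD φ).mapIso (DerivedCategory.Q.objObjPreimageIso E).symm ≪≫
        R.mapDerivedCategoryFactors.app P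
    refine subsingleton_of_forall_eq 0 fun x => (cancel_epi e.inv).1 ?_
    rw [comp_zero]
    refine hom_eq_zero (Ideal.mem_span_singleton_self f) _ (fun i => ?_) hK _
    show Function.Bijective (fun x : P.X i => φ f • x)
    have hu : IsUnit (φ f) := IsLocalization.Away.algebraMap_isUnit f
    exact hu.smul_bijective
  · intro h n
    let N : ModuleCat.{u} (Localization.Away f) := ModuleCat.of _ (Localization.Away f)
    let u : R.obj N →+ Localization.Away f := AddMonoidHom.id _
    let eN : R.obj N ≅ ModuleCat.of A (Localization.Away f) :=
      @LinearEquiv.toModuleIso A _ _ _ _ _ (R.obj N).isModule _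
        { toFun := u
          invFun := fun x : Localization.Away f => x
          map_add' := u.map_add
          map_smul' := fun a (x : Localization.Away f) =>
            show φ a * x = a • x from (Algebra.smul_def a x).symm
          left_inv := fun _ => rfl
          right_inv := fun _ => rfl }
    let e : (DRing.restrictD φ).obj (DRing.toD (Hom.sgl n N)) ≅ (Dual.inD A (Localization.Away f))⟦-n⟧ :=
      R.mapDerivedCategoryFactors.app _ ≪≫ DerivedCategory.Q.mapIso
        ((HomologicalComplex.singleMapHomologicalComplex R (ComplexShape.up ℤ) n).app N ≪≫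
          (HomologicalComplex.single (ModuleCat.{u} A) (ComplexShape.up ℤ) n).mapIso eN) ≪≫
        (Hom.shiftInDIso (ModuleCat.of A (Localization.Away f)) n (-n) (by omega)).symm
    haveI : Subsingleton ((Dual.inD A (Localization.Away f))⟦-n⟧ ⟶ K) :=
      (Iso.homFromEquiv (Z := K) e).subsingleton_congr.1 (h _)
    refine subsingleton_of_forall_eq 0 fun x => (shiftFunctor (Dual.D A) (-n)).map_injective ?_
    rw [Functor.map_zero,
      ← cancel_mono ((shiftFunctorCompIsoId (Dual.D A) n (-n) (by omega)).hom.app K)]
    exact Subsingleton.elim (α := (Dual.inD A (Localization.Away f))⟦-n⟧ ⟶ K) _ _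

end Groth.Agent.H4DR.DComplete
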