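import Mathlib

/-!
# Elements along which the tower of multiplications is acyclic
-/

set_option autoImplicit false

universe u v

namespace Groth.Agent.H4DR.DComplete

variable {A : Type u} [CommRing A]

/-- The shift of sequences. -/
abbrev sh (A : Type u) [CommRing A] (M : Type v) [AddCommGroup M] [Module A M] :
    Module.End A (ℕ → M) :=
  LinearMap.funLeft A M Nat.succ

/-- `m ↦ (m_k - f m_{k+1})`. -/
abbrev T (f : A) (M : Type v) [AddCommGroup M] [Module A M] : Module.End A (ℕ → M) :=
  1 - f • sh A M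

/-- `R lim (⋯ → M → M → M) = 0` for the multiplication by `f`. -/
def Bij (f : A) (M : Type v) [AddCommGroup M] [Module A M] : Prop :=
  Function.Bijective (T f M)

section

variable {f g : A} {M : Type v} [AddCommGroup M] [Module A M]

lemma T_apply (m : ℕ → M) (k : ℕ) : T f M m k = m k - f • m (k + 1) := rfl

lemma T_eq_iff {m s : ℕ → M} : T f M m = s ↔ ∀ k, m k = s k + f • m (k + 1) := by
  simp only [funext_iff, T_apply, sub_eq_iff_eq_add]

lemma Bij.exists_sol (h : Bij f M) (s : ℕ → M) : ∃ m : ℕ → M, ∀ k, m k = s k + f • m (k + 1) := by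
  obtain ⟨m, hm⟩ := h.2 s
  exact ⟨m, T_eq_iff.1 hm⟩

lemma Bij.eq_zero (h : Bij f M) {m : ℕ → M} (hm : ∀ k, m k = f • m (k + 1)) (k : ℕ) : m k = 0 := by
  have : m = 0 := h.1 (show T f M m = T f M 0 by rw [map_zero, T_eq_iff]; simpa using hm)
  rw [this]
  rfl

lemma bij_of_subsingleton [Subsingleton M] : Bij f M :=
  ⟨fun _ _ _ => Subsingleton.elim _ _, fun b => ⟨b, Subsingleton.elim _ _⟩⟩

lemma bij_zero : Bij (0 : A) M := by
  simp only [Bij, T, zero_smul, sub_zero]
  exact Function.bijective_id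

lemma Bij.of_equiv {N : Type*} [AddCommGroup N] [Module A N] (e : M ≃ₗ[A] N) (h : Bij f M) :
    Bij f N := by
  let E := LinearEquiv.piCongrRight (R := A) fun _ : ℕ => e
  have hc : (T f N : (ℕ → N) → (ℕ → N)) = E ∘ T f M ∘ E.symm := by
    funext m k
    simp [E, T_apply]
  unfold Bij
  rw [hc]
  exact E.bijective.comp (h.comp E.symm.bijective)

lemma bij_congr {N : Type*} [AddCommGroup N] [Module A N] (e : M ≃ₗ[A] N) : Bij f M ↔ Bij f N :=
  ⟨Bij.of_equiv e, Bij.of_equiv e.symm⟩

lemma Bij.pi (h : Bij f M) (ι : Type*) : Bij f (ι → M) := by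
  refine ⟨fun m m' hm => ?_, fun s => ?_⟩
  · funext k i
    exact congrFun (h.1 (a₁ := fun k => m k i) (a₂ := fun k => m' k i)
      (funext fun k => congrFun (congrFun hm k) i)) k
  · choose m hm using fun i => h.2 fun k => s k i
    exact ⟨fun k i => m i k, funext fun k => funext fun i => congrFun (hm i) k⟩

lemma Bij.isUnit_one_sub (h : Bij f M) (U : Module.End A M) : IsUnit (1 - f • U) := by
  rw [Module.End.isUnit_iff]
  refine ⟨(injective_iff_map_eq_zero _).2 fun a ha => ?_, fun b => ?_⟩
  · have ha' : a = f • U a := sub_eq_zero.1 ha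
    exact h.eq_zero (m := fun k => (U ^ k) a) (fun k => by
      rw [pow_succ, Module.End.mul_apply, ← map_smul, ← ha']) 0
  · obtain ⟨m, hm⟩ := h.exists_sol fun k => (U ^ k) b
    refine ⟨m 0, sub_eq_iff_eq_add.2 ((hm 0).trans ?_)⟩
    have e : ∀ k, m (k + 1) = U (m k) := fun k => sub_eq_zero.1
      (h.eq_zero (m := fun k => m (k + 1) - U (m k)) (fun j => by
        conv_lhs => rw [hm (j + 1), hm j, map_add, map_smul, pow_succ', Module.End.mul_apply]
        rw [smul_sub]
        abel) k)
    rw [e 0]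
    rfl

lemma bij_iff_isUnit : Bij f M ↔ IsUnit (T f M) := (Module.End.isUnit_iff _).symm

lemma Bij.mul_left (h : Bij f M) (r : A) : Bij (r * f) M := by
  rw [bij_iff_isUnit]
  have := (h.pi ℕ).isUnit_one_sub (r • sh A M)
  rwa [smul_smul, mul_comm f r] at this

lemma Bij.add (hf : Bij f M) (hg : Bij g M) : Bij (f + g) M := by
  rw [bij_iff_isUnit] at hf ⊢
  obtain ⟨u, hu⟩ := hf
  have h2 := (hg.pi ℕ).isUnit_one_sub ((↑u⁻¹ : Module.End A (ℕ → M)) * sh A M)
  have e : T (f + g) M =
      (u : Module.End A (ℕ → M)) * (1 - g • ((↑u⁻¹ : Module.End A (ℕ → M)) * sh A M)) := by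
    rw [mul_sub, mul_one, mul_smul_comm, Units.mul_inv_cancel_left, hu]
    simp only [T, add_smul]
    abel
  rw [e]
  exact u.isUnit.mul h2

lemma Bij.of_pow {n : ℕ} (h : Bij (f ^ n) M) : Bij f M := by
  rw [bij_iff_isUnit]
  have h1 := (h.pi ℕ).isUnit_one_sub (sh A M ^ n)
  rw [← smul_pow, ← mul_neg_geom_sum] at h1
  exact ((Commute.sum_right _ _ _ fun i _ =>
    ((Commute.one_left _).sub_left (Commute.self_pow _ i)))).isUnit_mul_iff.1 h1 |>.1

/-- The elements along which `M` is derived complete. -/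
def bijIdeal (M : Type v) [AddCommGroup M] [Module A M] : Ideal A where
  carrier := {f | Bij f M}
  zero_mem' := bij_zero
  add_mem' := Bij.add
  smul_mem' r _ h := h.mul_left r

lemma mem_bijIdeal : f ∈ bijIdeal M ↔ Bij f M := Iff.rfl

lemma isRadical_bijIdeal : (bijIdeal (A := A) M).IsRadical :=
  fun _ ⟨_, h⟩ => Bij.of_pow h

end

section

variable {f : A} {M N : Type*} [AddCommGroup M] [Module A M] [AddCommGroup N] [Module A N]

lemma Bij.ker (u : M →ₗ[A] N) (hM : Bij f M) (hN : Bij f N) : Bij f (LinearMap.ker u) := by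
  refine ⟨(injective_iff_map_eq_zero _).2 fun m hm => funext fun k => Subtype.ext ?_, fun s => ?_⟩
  · exact hM.eq_zero (m := fun k => (m k : M)) (fun k => sub_eq_zero.1
      congr($(congrFun hm k).val)) k
  · obtain ⟨m, hm⟩ := hM.exists_sol fun k => (s k : M)
    have hu : ∀ k, u (m k) = 0 := hN.eq_zero (fun k => by
      rw [hm k, map_add, map_smul, LinearMap.mem_ker.1 (s k).2, zero_add])
    exact ⟨fun k => ⟨m k, hu k⟩, T_eq_iff.2 fun k => Subtype.ext (hm k)⟩

lemma Bij.coker (u : M →ₗ[A] N) (hM : Bij f M) (hN : Bij f N) :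
    Bij f (N ⧸ LinearMap.range u) := by
  refine ⟨(injective_iff_map_eq_zero _).2 fun q hq => ?_, fun s => ?_⟩
  · choose m hm using fun k => Submodule.mkQ_surjective (LinearMap.range u) (q k)
    choose a ha using fun k : ℕ => show m k - f • m (k + 1) ∈ LinearMap.range u by
      rw [← Submodule.Quotient.mk_eq_zero]
      have := congrFun hq k
      rw [T_apply, Pi.zero_apply, ← hm k, ← hm (k + 1)] at this
      exact this
    obtain ⟨b, hb⟩ := hM.exists_sol a
    have h0 : ∀ k, m k - u (b k) = 0 := hN.eq_zero (fun k => by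
      rw [hb k, map_add, map_smul, ha k, smul_sub]
      abel)
    funext k
    rw [← hm k, sub_eq_zero.1 (h0 k)]
    exact (Submodule.Quotient.mk_eq_zero _).2 (LinearMap.mem_range_self u _)
  · choose t ht using fun k => Submodule.mkQ_surjective (LinearMap.range u) (s k)
    obtain ⟨m, hm⟩ := hN.exists_sol t
    refine ⟨fun k => Submodule.mkQ _ (m k), T_eq_iff.2 fun k => ?_⟩
    rw [← ht k, ← map_smul, ← map_add, ← hm k]

lemma Bij.extension (M₁ : Submodule A M) (h₁ : Bij f M₁) (h₃ : Bij f (M ⧸ M₁)) : Bij f M := by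
  refine ⟨(injective_iff_map_eq_zero _).2 fun m hm => funext fun k => ?_, fun s => ?_⟩
  · have hm' : ∀ k, m k = f • m (k + 1) := fun k => sub_eq_zero.1 (congrFun hm k)
    have hq : ∀ k, m k ∈ M₁ := fun k => (Submodule.Quotient.mk_eq_zero _).1
      (h₃.eq_zero (m := fun k => M₁.mkQ (m k)) (fun k => by rw [← map_smul, ← hm' k]) k)
    exact congrArg Subtype.val
      (h₁.eq_zero (m := fun k => (⟨m k, hq k⟩ : M₁)) (fun k => Subtype.ext (hm' k)) k)
  · obtain ⟨q, hq⟩ := h₃.exists_sol fun k => M₁.mkQ (s k)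
    choose t ht using fun k => Submodule.mkQ_surjective M₁ (q k)
    obtain ⟨b, hb⟩ := h₁.exists_sol fun k => (⟨s k + f • t (k + 1) - t k, by
      rw [← Submodule.Quotient.mk_eq_zero]
      show M₁.mkQ _ = 0
      rw [map_sub, map_add, map_smul, ht, ht, ← hq k, sub_self]⟩ : M₁)
    refine ⟨fun k => t k + b k, T_eq_iff.2 fun k => ?_⟩
    have := congrArg Subtype.val (hb k)
    simp only [Submodule.coe_add, Submodule.coe_smul] at this
    rw [this, smul_add]
    abel

end

/-- Restriction of scalars does not change anything. -/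
lemma bij_algebraMap {B : Type*} [CommRing B] [Algebra A B] {M : Type*} [AddCommGroup M] [Module A M]
    [Module B M] [IsScalarTower A B M] (f : A) : Bij (algebraMap A B f) M ↔ Bij f M := by
  have : (T (algebraMap A B f) M : (ℕ → M) → (ℕ → M)) = T f M := by
    funext m k
    simp [T_apply, algebraMap_smul]
  simp only [Bij, this]

section adic

variable (I : Ideal A) {M : Type*} [AddCommGroup M] [Module A M]

lemma pow_smul_top_eq_zero [IsHausdorff I M] {x : M} (h : ∀ n : ℕ, x ∈ (I ^ n • ⊤ : Submodule A M)) :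
    x = 0 :=
  IsHausdorff.haus inferInstance x fun n => SModEq.zero.2 (h n)

lemma eq_sum_add {f : A} {m s : ℕ → M} (hm : ∀ k, m k = s k + f • m (k + 1)) (k : ℕ) :
    m 0 = ∑ j ∈ Finset.range k, f ^ j • s j + f ^ k • m k := by
  induction k with
  | zero => simp
  | succ k ih =>
    rw [ih, Finset.sum_range_succ, hm k, smul_add, smul_smul, ← pow_succ, add_assoc]

theorem bij_of_isAdicComplete [IsAdicComplete I M] {f : A} (hf : f ∈ I) : Bij f M := by
  have hpow : ∀ (n : ℕ) (x : M), f ^ n • x ∈ (I ^ n • ⊤ : Submodule A M) := fun n x =>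
    Submodule.smul_mem_smul (Ideal.pow_mem_pow hf n) trivial
  refine ⟨(injective_iff_map_eq_zero _).2 fun m hm => funext fun k => ?_, fun s => ?_⟩
  · refine pow_smul_top_eq_zero I fun n => ?_
    have := eq_sum_add (f := f) (m := fun j => m (k + j)) (s := fun _ => 0)
      (fun j => by rw [zero_add, ← add_assoc]; exact sub_eq_zero.1 (congrFun hm (k + j))) n
    simp only [smul_zero, Finset.sum_const_zero, zero_add, Nat.add_zero] at this
    rw [this]
    exact hpow n _
  · let S : ℕ → ℕ → M := fun k n => ∑ j ∈ Finset.range n, f ^ j • s (k + j)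
    have hS : ∀ k, ∃ L : M, ∀ n, S k n ≡ L [SMOD (I ^ n • ⊤ : Submodule A M)] := fun k =>
      IsPrecomplete.prec inferInstance fun {m n} hmn => (SModEq.sub_mem.2 (by
        simp only [S]
        rw [← Finset.sum_range_add_sum_Ico _ hmn, sub_add_cancel_left]
        refine neg_mem (Submodule.sum_mem _ fun j hj => ?_)
        exact Submodule.smul_mem_smul (Ideal.pow_le_pow_right (Finset.mem_Ico.1 hj).1
          (Ideal.pow_mem_pow hf j)) trivial))
    choose L hL using hS
    refine ⟨L, funext fun k => sub_eq_zero.1 (pow_smul_top_eq_zero I fun n => ?_)⟩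
    have h1 := SModEq.sub_mem.1 (hL k (n + 1))
    have h2 := SModEq.sub_mem.1 (hL (k + 1) n)
    have h1' : S k (n + 1) - L k ∈ (I ^ n • ⊤ : Submodule A M) :=
      Submodule.smul_mono_left (Ideal.pow_le_pow_right (Nat.le_succ n)) h1
    have e : S k (n + 1) = s k + f • S (k + 1) n := by
      simp only [S, Finset.sum_range_succ', Finset.smul_sum, smul_smul, pow_zero, one_smul,
        Nat.add_zero]
      rw [add_comm]
      congr 1
      refine Finset.sum_congr rfl fun j _ => ?_
      rw [← pow_succ', show k + 1 + j = k + (j + 1) by ring]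
    rw [T_apply, show L k - f • L (k + 1) - s k = f • (S (k + 1) n - L (k + 1)) - (S k (n + 1) - L k) by
      rw [e, smul_sub]; abel]
    exact sub_mem (Submodule.smul_mem _ _ h2) h1'

end adic

end Groth.Agent.H4DR.DComplete
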