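import Groth.Agent.H4DR.DComplete.Completion
import Groth.Agent.H4DR.DComplete.Series
import Groth.Agent.H4DR.TorAmp.Quotient
import Groth.Agent.H4DR.TorAmp.Nilpotent
import Groth.Agent.H4DR.Hom.HLinear

/-!
# Derived Nakayama
-/

set_option autoImplicit false
set_option linter.style.haveILetI false

universe u

open CategoryTheory CategoryTheory.Limits Pretriangulated MonoidalCategory
open Groth.Agent.H4DR.TorAmp
open Groth.Agent.H16Derived
open scoped TensorProduct

attribute [local instance] HasDerivedCategory.standard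

namespace Groth.Agent.H4DR.DComplete

open Groth.Agent.H4DR.KFlatMod (bi)

variable {A : Type u} [CommRing A]

/-- Exactness above `b` is inherited by tensor products, for K-flat complexes. -/
theorem exactAt_tens_of_exactAt {Q : DRing.Cx A} (hQ : KFlat.IsKFlat (bi A) Q) (b : ℤ)
    (h : ∀ i, b < i → Q.ExactAt i) (N : ModuleCat.{u} A) {i : ℤ} (hi : b < i) :
    ((tens N).obj Q).ExactAt i := by
  obtain ⟨P, hP, ⟨e⟩⟩ := exists_projRep (K := DRing.toD Q) (c := b) fun j hj =>
    (subsingleton_HD_toD_iff Q j).2 (h j hj)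
  obtain ⟨f, hf, -⟩ := exists_qis hP e
  have := quasiIso_tens f (isKFlat_of_flat hP.above hP.flat) hQ N
  haveI := this.quasiIsoAt i
  exact ((exactAt_iff_of_quasiIsoAt ((tens N).map f) i)).1 ((HomologicalComplex.exactAt_iff _ _).2
    (ShortComplex.exact_of_isZero_X₂ _ ((tensorRight N).map_isZero (hP.above i hi))))

/-- Vanishing against `A/I` is vanishing against all modules killed by `I`. -/
theorem exactAt_tens_of_quotient (I : Ideal A) {P : DRing.Cx A} (hK : KFlat.IsKFlat (bi A) P) (b : ℤ)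
    (h : ∀ i, b < i → ((tens (ModuleCat.of A (A ⧸ I))).obj P).ExactAt i)
    (N : ModuleCat.{u} A) (hN : I • (⊤ : Submodule A N) = ⊥) {i : ℤ} (hi : b < i) :
    ((tens N).obj P).ExactAt i := by
  let φ := Ideal.Quotient.mk I
  let X := (ModuleCat.restrictScalars.{u} φ).obj (ModuleCat.of (A ⧸ I) (A ⧸ I))
  let e₁ : X ≃ₗ[A] (A ⧸ I) :=
    { toFun := fun x => (x : A ⧸ I)
      invFun := fun x => (x : A ⧸ I)
      map_add' := fun _ _ => rfl
      left_inv := fun _ => rfl
      right_inv := fun _ => rfl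
      map_smul' := fun r x => by
        show φ r * (show A ⧸ I from x) = r • (show A ⧸ I from x)
        rw [Algebra.smul_def]
        rfl }
  have hext : ∀ j, b < j → (((ModuleCat.extendScalars.{u, u, u} φ).mapHomologicalComplex
      (ComplexShape.up ℤ)).obj P).ExactAt j := fun j hj =>
    (exactAt_ext_iff_tens φ P j).2 ((h j hj).of_iso ((NatIso.mapHomologicalComplex
      ((curriedTensor (ModuleCat.{u} A)).flip.mapIso e₁.toModuleIso.symm) (ComplexShape.up ℤ)).app P))
  exact exactAt_tens_of_surjective (φ := φ) Ideal.Quotient.mk_surjective N (by rwa [Ideal.mk_ker])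
    fun N' => exactAt_tens_of_exactAt (H25DTen.isKFlat_extCx φ hK) b hext N' hi

/-- Exactness against modules killed by `f` and the ideal gives bijectivity of `f`. -/
theorem smul_cycles {P : DRing.Cx A} (hP : DRing.TermwiseFlat P) (f : A) (N : ModuleCat.{u} A)
    (i : ℤ) (h₁ : ((tens (ModuleCat.of A (LinearMap.ker (f • LinearMap.id : N →ₗ[A] N)))).obj P).ExactAt (i + 1))
    (h₃ : ((tens (ModuleCat.of A (N ⧸ LinearMap.range (f • LinearMap.id : N →ₗ[A] N)))).obj P).ExactAt i) :
    (∀ z : ((tens N).obj P).X i, (((tens N).obj P).d i (i + 1)).hom z = 0 →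
      ∃ (w : ((tens N).obj P).X i) (y : ((tens N).obj P).X (i - 1)),
        (((tens N).obj P).d i (i + 1)).hom w = 0 ∧ z = f • w + (((tens N).obj P).d (i - 1) i).hom y) ∧
    (∀ (z : ((tens N).obj P).X (i + 1)) (y : ((tens N).obj P).X i),
      (((tens N).obj P).d (i + 1) (i + 1 + 1)).hom z = 0 → f • z = (((tens N).obj P).d i (i + 1)).hom y →
        ∃ y' : ((tens N).obj P).X i, z = (((tens N).obj P).d i (i + 1)).hom y') := by
  rw [HomologicalComplex.exactAt_iff' _ (i - 1) i (i + 1) (by simp) (by simp),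
    ShortComplex.ShortExact.moduleCat_exact_iff_function_exact] at h₃
  rw [HomologicalComplex.exactAt_iff' _ i (i + 1) (i + 1 + 1) (by simp) (by simp),
    ShortComplex.ShortExact.moduleCat_exact_iff_function_exact] at h₁
  let m : N →ₗ[A] N := f • LinearMap.id
  have hexK : ∀ j, Function.Exact ((LinearMap.ker m).subtype.lTensor (P.X j)) (m.lTensor (P.X j)) := fun j =>
    haveI := hP j
    Module.Flat.lTensor_exact (P.X j) (LinearMap.exact_subtype_ker_map m)
  have hexQ : ∀ j, Function.Exact (m.lTensor (P.X j)) ((LinearMap.range m).mkQ.lTensor (P.X j)) := fun j =>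
    lTensor_exact (P.X j) (LinearMap.exact_map_mkQ_range m) (Submodule.mkQ_surjective _)
  have hinj : ∀ j, Function.Injective ((LinearMap.ker m).subtype.lTensor (P.X j)) := fun j =>
    haveI := hP j
    Module.Flat.lTensor_preserves_injective_linearMap _ (Submodule.injective_subtype _)
  have hm : ∀ j (x : (P.X j : Type u) ⊗[A] N), m.lTensor (P.X j) x = f • x := fun j x => by
    simp [m, LinearMap.lTensor_smul]
  have hd : ∀ {M M' : Type u} [AddCommGroup M] [Module A M] [AddCommGroup M'] [Module A M']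
      (g : M →ₗ[A] M') (j k : ℤ) (x : (P.X j : Type u) ⊗[A] M),
      g.lTensor (P.X k) ((P.d j k).hom.rTensor M x) = (P.d j k).hom.rTensor M' (g.lTensor (P.X j) x) := by
    intro M M' _ _ _ _ g j k x
    rw [← LinearMap.comp_apply, LinearMap.lTensor_comp_rTensor, ← LinearMap.rTensor_comp_lTensor,
      LinearMap.comp_apply]
  have hdd : ∀ {M : Type u} [AddCommGroup M] [Module A M] (j k l : ℤ) (x : (P.X j : Type u) ⊗[A] M),
      (P.d k l).hom.rTensor M ((P.d j k).hom.rTensor M x) = 0 := by
    intro M _ _ j k l x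
    rw [← LinearMap.comp_apply, ← LinearMap.rTensor_comp,
      show (P.d k l).hom ∘ₗ (P.d j k).hom = 0 from ModuleCat.hom_ext_iff.1 (P.d_comp_d j k l),
      LinearMap.rTensor_zero, LinearMap.zero_apply]
  constructor
  · intro (z : (P.X i : Type u) ⊗[A] N) (hz : (P.d i (i + 1)).hom.rTensor N z = 0)
    show ∃ (w : (P.X i : Type u) ⊗[A] N) (y : (P.X (i - 1) : Type u) ⊗[A] N),
      (P.d i (i + 1)).hom.rTensor N w = 0 ∧ z = f • w + (P.d (i - 1) i).hom.rTensor N y
    obtain ⟨ybar, hy⟩ := (h₃ ((LinearMap.range m).mkQ.lTensor (P.X i) z)).1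
      (show (P.d i (i + 1)).hom.rTensor _ _ = 0 by rw [← hd, hz, map_zero])
    obtain ⟨y, rfl⟩ := LinearMap.lTensor_surjective (P.X (i - 1)) (Submodule.mkQ_surjective _) ybar
    have h2 : (LinearMap.range m).mkQ.lTensor (P.X i) (z - (P.d (i - 1) i).hom.rTensor N y) = 0 := by
      rw [map_sub, hd, sub_eq_zero]
      exact hy.symm
    obtain ⟨w, hw⟩ := (hexQ i _).1 h2
    have h3 : m.lTensor (P.X (i + 1)) ((P.d i (i + 1)).hom.rTensor N w) = 0 := by
      rw [hd, hw, map_sub, hz, hdd, sub_zero]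
    obtain ⟨v, hv⟩ := (hexK (i + 1) _).1 h3
    have h4 : (P.d (i + 1) (i + 1 + 1)).hom.rTensor (LinearMap.ker m) v = 0 := hinj (i + 1 + 1) (by
      rw [map_zero, hd, hv, hdd])
    obtain ⟨(v' : (P.X i : Type u) ⊗[A] LinearMap.ker m),
      (hv' : (P.d i (i + 1)).hom.rTensor (LinearMap.ker m) v' = v)⟩ := (h₁ v).1 h4
    refine ⟨w - (LinearMap.ker m).subtype.lTensor (P.X i) v', y, ?_, ?_⟩
    · rw [map_sub, ← hd, hv', hv, sub_self]
    · rw [← hm, map_sub, (hexK i).apply_apply_eq_zero, sub_zero, hw, sub_add_cancel]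
  · intro (z : (P.X (i + 1) : Type u) ⊗[A] N) (y : (P.X i : Type u) ⊗[A] N)
      (hz : (P.d (i + 1) (i + 1 + 1)).hom.rTensor N z = 0) (hy : f • z = (P.d i (i + 1)).hom.rTensor N y)
    show ∃ y' : (P.X i : Type u) ⊗[A] N, z = (P.d i (i + 1)).hom.rTensor N y'
    obtain ⟨ybar, hyb⟩ := (h₃ ((LinearMap.range m).mkQ.lTensor (P.X i) y)).1
      (show (P.d i (i + 1)).hom.rTensor _ _ = 0 by
        rw [← hd, ← hy, ← hm, (hexQ (i + 1)).apply_apply_eq_zero])
    obtain ⟨y₀, rfl⟩ := LinearMap.lTensor_surjective (P.X (i - 1)) (Submodule.mkQ_surjective _) ybar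
    have h2 : (LinearMap.range m).mkQ.lTensor (P.X i) (y - (P.d (i - 1) i).hom.rTensor N y₀) = 0 := by
      rw [map_sub, hd, sub_eq_zero]
      exact hyb.symm
    obtain ⟨w, hw⟩ := (hexQ i _).1 h2
    have h3 : m.lTensor (P.X (i + 1)) (z - (P.d i (i + 1)).hom.rTensor N w) = 0 := by
      rw [map_sub, hd, hw, map_sub, hdd, sub_zero, hm, hy, sub_self]
    obtain ⟨v, hv⟩ := (hexK (i + 1) _).1 h3
    have h4 : (P.d (i + 1) (i + 1 + 1)).hom.rTensor (LinearMap.ker m) v = 0 := hinj (i + 1 + 1) (by
      rw [map_zero, hd, hv, map_sub, hz, hdd, sub_zero])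
    obtain ⟨(v' : (P.X i : Type u) ⊗[A] LinearMap.ker m),
      (hv' : (P.d i (i + 1)).hom.rTensor (LinearMap.ker m) v' = v)⟩ := (h₁ v).1 h4
    refine ⟨w + (LinearMap.ker m).subtype.lTensor (P.X i) v', ?_⟩
    rw [map_add, ← hd, hv', hv, add_sub_cancel]

/-- Exactness of the cone of a multiplication. -/
lemma exactAt_cone_smul {W : DRing.Cx A} (f : A) (i : ℤ)
    (hsurj : ∀ z : W.X i, (W.d i (i + 1)).hom z = 0 →
      ∃ (w : W.X i) (y : W.X (i - 1)), (W.d i (i + 1)).hom w = 0 ∧ z = f • w + (W.d (i - 1) i).hom y)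
    (hinj : ∀ (z : W.X (i + 1)) (y : W.X i), (W.d (i + 1) (i + 1 + 1)).hom z = 0 →
      f • z = (W.d i (i + 1)).hom y → ∃ y' : W.X i, z = (W.d i (i + 1)).hom y') :
    (CochainComplex.mappingCone (f • 𝟙 W)).ExactAt i := by
  have hH : ∀ (j : ℤ) (x : Dual.HD A (DRing.toD W) j),
      PCoh.hm j (DerivedCategory.Q.map (f • 𝟙 W)) x = f • x := fun j x => by
    rw [Functor.map_smul, CategoryTheory.Functor.map_id, PCoh.hm, Functor.map_smul, CategoryTheory.Functor.map_id]
    rfl
  let e : ∀ a j c : ℤ, a + 1 = j → j + 1 = c →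
      (Dual.HD A (DRing.toD W) j ≃ₗ[A] ((W.sc' a j c).moduleCatLeftHomologyData.H : ModuleCat.{u} A)) :=
    fun a j c ha hc => ((DerivedCategory.homologyFunctorFactors (ModuleCat.{u} A) j).app W ≪≫
      ShortComplex.homologyMapIso (W.isoSc' a j c (by simp; omega) (by simp; omega)) ≪≫
      (W.sc' a j c).moduleCatHomologyIso).toLinearEquiv
  rw [← subsingleton_HD_toD_iff]
  refine (PCoh.subsingleton₃_iff _ (DerivedCategory.mappingCone_triangle_distinguished (f • 𝟙 W)) i (i + 1) rfl).2
    ⟨fun (x : Dual.HD A (DRing.toD W) i) => ?_,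
      (injective_iff_map_eq_zero _).2 fun (x : Dual.HD A (DRing.toD W) (i + 1)) hx => ?_⟩
  · let E := e (i - 1) i (i + 1) (by omega) rfl
    obtain ⟨⟨z, hz⟩, hq⟩ := Submodule.Quotient.mk_surjective _ (E x)
    change W.X i at z
    obtain ⟨w, y, hw, hzw⟩ := hsurj z (LinearMap.mem_ker.1 hz)
    let wc : LinearMap.ker (W.sc' (i - 1) i (i + 1)).g.hom := ⟨w, hw⟩
    refine ⟨E.symm (Submodule.Quotient.mk wc), ?_⟩
    refine (hH i _).trans ((map_smul E.symm f _).symm.trans (E.symm_apply_eq.2 ?_))
    refine Eq.trans ?_ hq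
    refine (Submodule.Quotient.eq _).2 ⟨-y, Subtype.ext ?_⟩
    show (W.d (i - 1) i).hom (-y) = f • w - z
    rw [hzw, map_neg]
    abel
  · let E := e i (i + 1) (i + 1 + 1) rfl rfl
    obtain ⟨⟨z, hz⟩, hq⟩ := Submodule.Quotient.mk_surjective _ (E x)
    have hx' : f • x = 0 := (hH (i + 1) x).symm.trans hx
    have h0 := (map_smul E f x).symm.trans ((congrArg E hx').trans (map_zero E))
    rw [← hq] at h0
    obtain ⟨y, hy⟩ := (Submodule.Quotient.mk_eq_zero _).1 h0
    obtain ⟨y', hy'⟩ := hinj z y (LinearMap.mem_ker.1 hz) (congrArg Subtype.val hy).symm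
    refine E.injective (Eq.trans ?_ (map_zero E).symm)
    exact hq.symm.trans ((Submodule.Quotient.mk_eq_zero _).2 ⟨y', Subtype.ext hy'.symm⟩)

lemma termwiseFlat_cone {P Q : DRing.Cx A} (hP : DRing.TermwiseFlat P) (hQ : DRing.TermwiseFlat Q)
    (g : P ⟶ Q) : DRing.TermwiseFlat (CochainComplex.mappingCone g) := fun i => by
  haveI := hP (i + 1)
  haveI := hQ i
  exact Module.Flat.of_linearEquiv
    (HomologicalComplex.homotopyCofiber.XIsoBiprod g i (i + 1) rfl ≪≫
      ModuleCat.biprodIsoProd _ _).toLinearEquiv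

/-- Derived Nakayama in one direction. -/
theorem exactAt_of_complete (s : Finset A) : ∀ (b : ℤ) (P : DRing.Cx A), DRing.TermwiseFlat P →
    (∀ g ∈ s, ∀ n : ℤ, Bij g (Dual.HD A (DRing.toD P) n)) →
    (∀ N : ModuleCat.{u} A, Ideal.span (s : Set A) • (⊤ : Submodule A N) = ⊥ →
      ∀ i, b < i → ((tens N).obj P).ExactAt i) →
    ∀ i, b < i → P.ExactAt i := by
  classical
  induction s using Finset.induction_on with
  | empty =>
    intro b P _ _ h i hi
    exact exactAt_of_exactAt_tens_unit (h _ (by simp) i hi)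
  | @insert f s _ ih =>
    intro b P hP hc h i hi
    let P' := CochainComplex.mappingCone (f • 𝟙 P)
    have hT := DerivedCategory.mappingCone_triangle_distinguished (f • 𝟙 P)
    have hc' : ∀ g ∈ s, ∀ n : ℤ, Bij g (Dual.HD A (DRing.toD P') n) := by
      intro g hg
      have hK : DRing.IsDerivedComplete (Ideal.span {g}) (DRing.toD P) :=
        (isDerivedComplete_span_iff _ _).2 fun g' hg' => by
          rw [Set.mem_singleton_iff.1 hg']; exact hc g (Finset.mem_insert_of_mem hg)
      have hP' : DRing.IsDerivedComplete (Ideal.span {g}) (DRing.toD P') := fun a ha n => by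
        refine subsingleton_of_forall_eq 0 fun x => ?_
        let T := (Triangle.shiftFunctor (Dual.D A) n).obj
          (DerivedCategory.Q.mapTriangle.obj (CochainComplex.mappingCone.triangle (f • 𝟙 P)))
        obtain ⟨y, hy⟩ := Triangle.coyoneda_exact₃ T (Triangle.shift_distinguished _ hT n) x (by
          haveI := isDerivedComplete_shift hK n a ha 1
          exact Subsingleton.elim (α := Dual.inD A (Localization.Away a) ⟶ ((DRing.toD P)⟦n⟧)⟦(1 : ℤ)⟧) _ _)
        haveI := hK a ha n
        exact hy.trans ((congrArg (· ≫ _) (Subsingleton.elim (α := Dual.inD A (Localization.Away a) ⟶ (DRing.toD P)⟦n⟧) y 0)).trans zero_comp)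
      exact (isDerivedComplete_span_iff _ _).1 hP' g rfl
    have h' : ∀ N : ModuleCat.{u} A, Ideal.span (s : Set A) • (⊤ : Submodule A N) = ⊥ →
        ∀ j, b < j → ((tens N).obj P').ExactAt j := by
      intro N hN j hj
      let m : N →ₗ[A] N := f • LinearMap.id
      have hk : ∀ (M : Type u) [AddCommGroup M] [Module A M], (∀ x : M, f • x = 0) →
          (∀ a ∈ (s : Set A), ∀ x : M, a • x = 0) →
          Ideal.span ((insert f s : Finset A) : Set A) • (⊤ : Submodule A M) = ⊥ := by
        intro M _ _ hf hs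
        rw [eq_bot_iff, Submodule.smul_le]
        intro a ha x _
        rw [Submodule.mem_bot]
        induction ha using Submodule.span_induction with
        | mem a ha =>
          rcases Finset.mem_insert.1 (Finset.mem_coe.1 ha) with rfl | ha
          · exact hf x
          · exact hs a ha x
        | zero => rw [zero_smul]
        | add a b _ _ iha ihb => rw [add_smul, iha, ihb, add_zero]
        | smul c a _ iha => rw [smul_assoc, iha, smul_zero]
      have hs : ∀ a ∈ (s : Set A), ∀ x : N, a • x = 0 := fun a ha x =>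
        (Submodule.mem_bot A).1 (hN ▸ Submodule.smul_mem_smul (Ideal.subset_span ha) trivial)
      have hK := h (ModuleCat.of A (LinearMap.ker m)) (hk _ (fun x => Subtype.ext x.2)
        (fun a ha x => Subtype.ext (hs a ha x)))
      have hQ := h (ModuleCat.of A (N ⧸ LinearMap.range m)) (hk _ (fun x => by
          obtain ⟨x, rfl⟩ := Submodule.mkQ_surjective _ x
          rw [← map_smul]
          exact (Submodule.Quotient.mk_eq_zero _).2 ⟨x, rfl⟩)
        (fun a ha x => by
          obtain ⟨x, rfl⟩ := Submodule.mkQ_surjective _ x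
          rw [← map_smul, hs a ha x, map_zero]))
      obtain ⟨h1, h2⟩ := smul_cycles hP f N j (hK (j + 1) (by omega)) (hQ j hj)
      have hcone := exactAt_cone_smul f j h1 h2
      have e : (tens N).map (f • 𝟙 P) = f • 𝟙 ((tens N).obj P) := by
        ext k : 1
        show (tensorRight N).map (f • 𝟙 (P.X k)) = f • 𝟙 _
        rw [Functor.map_smul, CategoryTheory.Functor.map_id]
        rfl
      rw [← e] at hcone
      exact hcone.of_iso (CochainComplex.mappingCone.mapHomologicalComplexIso (f • 𝟙 P) (tensorRight N)).symm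
    have hP' := ih b P' (termwiseFlat_cone hP hP _) hc' h'
    have hsub := (subsingleton_HD_toD_iff P i).1
    refine hsub ?_
    have hsurj := PCoh.surjective₁_of_subsingleton _ hT i ((subsingleton_HD_toD_iff P' i).2 (hP' i hi))
    refine subsingleton_of_smul_top {f} (fun g hg => ?_) (eq_top_iff.2 fun x _ => ?_)
    · rw [Finset.mem_singleton.1 hg]
      exact hc f (Finset.mem_insert_self _ _) i
    · obtain ⟨y, rfl⟩ := hsurj x
      rw [Finset.coe_singleton, Submodule.ideal_span_singleton_smul]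
      show PCoh.hm i (DerivedCategory.Q.map (f • 𝟙 P)) y ∈ _
      rw [Functor.map_smul, CategoryTheory.Functor.map_id, PCoh.hm, Functor.map_smul,
        CategoryTheory.Functor.map_id]
      exact Submodule.smul_mem_pointwise_smul _ _ _ trivial

end Groth.Agent.H4DR.DComplete
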