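import Groth.Agent.H4DR.DComplete.Series

/-!
# Derived complete rings
-/

set_option autoImplicit false
set_option linter.style.haveILetI false

universe u

open Pointwise Polynomial

namespace Groth.Agent.H4DR.DComplete

variable {A : Type u} [CommRing A]

theorem iInf_sq_le {f : A} (c : Ideal A) (h : Bij f (A ⧸ c)) :
    (⨅ n : ℕ, c ⊔ Ideal.span {f ^ n}) * (⨅ n : ℕ, c ⊔ Ideal.span {f ^ n}) ≤ c := by
  refine Ideal.mul_le.2 fun y hy x hx => ?_
  have hd : ∀ z ∈ (⨅ n : ℕ, c ⊔ Ideal.span {f ^ n}), ∀ k, ∃ a, z - f ^ k * a ∈ c := by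
    intro z hz k
    obtain ⟨p, hp, q, hq, rfl⟩ := Submodule.mem_sup.1 ((Submodule.mem_iInf _).1 hz k)
    obtain ⟨a, rfl⟩ := Ideal.mem_span_singleton'.1 hq
    exact ⟨a, by rw [mul_comm a, add_sub_cancel_right]; exact hp⟩
  choose a ha using hd y hy
  have := smul_eq_zero_of_divisible (M := A ⧸ c) h (a := a) (y := y) (fun k m => by
      obtain ⟨m, rfl⟩ := Ideal.Quotient.mk_surjective m
      refine (Submodule.Quotient.eq _).2 ?_
      show y • m - (f ^ k * a k) • m ∈ c
      rw [← sub_smul]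
      exact c.mul_mem_right m (ha k))
    (x := Ideal.Quotient.mk c x) (fun k => by
      obtain ⟨b, hb⟩ := hd x hx k
      exact ⟨Ideal.Quotient.mk c b, (Submodule.Quotient.eq _).2 hb⟩)
  exact Ideal.Quotient.eq_zero_iff_mem.1 this

lemma bij_quotient_span {f g : A} (c : Ideal A) (h : Bij g (A ⧸ c)) :
    Bij g (A ⧸ (c ⊔ Ideal.span {f})) := by
  let l : (A ⧸ c) →ₗ[A] (A ⧸ c) := f • LinearMap.id
  have hr : LinearMap.range l = Submodule.map (Submodule.mkQ c) (c ⊔ Ideal.span {f}) := by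
    apply le_antisymm
    · rintro _ ⟨x, rfl⟩
      obtain ⟨x, rfl⟩ := Submodule.mkQ_surjective c x
      exact ⟨f * x, Submodule.mem_sup_right (Ideal.mul_mem_right x _ (Ideal.mem_span_singleton_self f)), rfl⟩
    · rw [Submodule.map_sup, sup_le_iff]
      refine ⟨?_, ?_⟩
      · rintro _ ⟨x, hx, rfl⟩
        rw [show c.mkQ x = 0 from (Submodule.Quotient.mk_eq_zero c).2 hx]
        exact zero_mem _
      · rintro _ ⟨x, hx, rfl⟩
        obtain ⟨b, rfl⟩ := Ideal.mem_span_singleton'.1 hx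
        exact ⟨c.mkQ b, by rw [mul_comm b f]; rfl⟩
  exact (h.coker l h).of_equiv ((Submodule.quotEquivOfEq _ _ hr).trans
    (Submodule.quotientQuotientEquivQuotient c (c ⊔ Ideal.span {f}) le_sup_left))

theorem iInf_pow_sup_le (s : Finset A) : ∀ c : Ideal A, (∀ f ∈ s, Bij f (A ⧸ c)) →
    (⨅ n : ℕ, Ideal.span (s : Set A) ^ n ⊔ c) ^ (2 ^ s.card) ≤ c := by
  classical
  induction s using Finset.induction_on with
  | empty =>
    intro c _
    simp only [Finset.card_empty, pow_zero, pow_one, Finset.coe_empty, Ideal.span_empty]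
    refine (iInf_le _ 1).trans ?_
    simp
  | @insert f s hf ih =>
    intro c hb
    rw [Finset.card_insert_of_notMem hf, pow_succ', pow_mul']
    have hle : (⨅ n : ℕ, Ideal.span ((insert f s : Finset A) : Set A) ^ n ⊔ c) ^ 2 ^ s.card ≤
        ⨅ n : ℕ, c ⊔ Ideal.span {f ^ n} := by
      refine le_iInf fun n => le_trans (Ideal.pow_right_mono (le_iInf fun m => ?_) _)
        (ih (c ⊔ Ideal.span {f ^ n}) fun g hg => bij_quotient_span c (hb g (Finset.mem_insert_of_mem hg)))
      refine (iInf_le _ (m + n)).trans (sup_le ?_ (le_sup_of_le_right le_sup_left))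
      rw [Finset.coe_insert, Ideal.span_insert, sup_comm]
      refine (Ideal.sup_pow_add_le_pow_sup_pow (n := m) (m := n)).trans (sup_le_sup le_rfl ?_)
      rw [Ideal.span_singleton_pow]
      exact le_sup_right
    rw [sq]
    exact (Ideal.mul_mono hle hle).trans (iInf_sq_le c (hb f (Finset.mem_insert_self _ _)))

lemma le_jacobson {I : Ideal A} (h : ∀ f ∈ I, Bij f A) : I ≤ Ideal.jacobson ⊥ := fun x hx => by
  refine Ideal.mem_jacobson_bot.2 fun y => ?_
  have := (Module.End.isUnit_iff _).1 ((h x hx).isUnit_one_sub ((-y) • (1 : Module.End A A)))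
  obtain ⟨b, hb⟩ := this.2 1
  refine IsUnit.of_mul_eq_one b ?_
  simp only [LinearMap.sub_apply, Module.End.one_apply, LinearMap.smul_apply, smul_eq_mul] at hb
  exact Eq.trans (by ring) hb

/-- Roots lift. -/
theorem exists_root {I : Ideal A} (h : ∀ f ∈ I, Bij f A) (p : A[X]) (a₀ : A) (h₀ : p.eval a₀ ∈ I)
    (hu : IsUnit (p.derivative.eval a₀)) : ∃ a, p.IsRoot a ∧ a - a₀ ∈ I := by
  obtain ⟨v, hv⟩ := hu
  set g := p.eval a₀
  set J := Ideal.span {g}
  let a : ℕ → A := fun n => Nat.rec a₀ (fun _ b => b - p.eval b * ↑v⁻¹) n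
  have ha : ∀ n, p.eval (a n) ∈ J ^ (n + 1) ∧ a n - a₀ ∈ J := by
    intro n
    induction n with
    | zero => exact ⟨by simp [a, J, g], by simp [a]⟩
    | succ n ih =>
      obtain ⟨h1, h2⟩ := ih
      have h1' : p.eval (a n) ∈ J := Ideal.pow_le_self (Nat.succ_ne_zero n) h1
      refine ⟨?_, ?_⟩
      · obtain ⟨k, hk⟩ := Polynomial.binomExpansion p (a n) (-(p.eval (a n) * ↑v⁻¹))
        have e : a (n + 1) = a n + -(p.eval (a n) * ↑v⁻¹) := sub_eq_add_neg _ _
        have hd : p.derivative.eval (a n) - (v : A) ∈ J := by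
          rw [hv]
          exact Ideal.mem_of_dvd _ (Polynomial.sub_dvd_eval_sub _ _ _) h2
        rw [e, hk, pow_succ J (n + 1)]
        have e1 : p.eval (a n) + p.derivative.eval (a n) * -(p.eval (a n) * ↑v⁻¹) +
            k * (-(p.eval (a n) * ↑v⁻¹)) ^ 2 =
            p.eval (a n) * (-(p.derivative.eval (a n) - (v : A)) * ↑v⁻¹ +
              k * (↑v⁻¹) ^ 2 * p.eval (a n)) := by
          linear_combination (-(p.eval (a n))) * Units.mul_inv v
        rw [e1]
        exact Ideal.mul_mem_mul h1 (add_mem (Ideal.mul_mem_right _ _ (neg_mem hd))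
          (Ideal.mul_mem_left _ _ h1'))
      · show a n - p.eval (a n) * ↑v⁻¹ - a₀ ∈ J
        rw [sub_right_comm]
        exact sub_mem h2 (Ideal.mul_mem_right _ _ h1')
  have hstep : ∀ n, a (n + 1) - a n ∈ (J ^ n • ⊤ : Submodule A A) := fun n => by
    rw [Ideal.smul_eq_mul, Ideal.mul_top]
    show a n - p.eval (a n) * ↑v⁻¹ - a n ∈ J ^ n
    rw [sub_right_comm, sub_self, zero_sub]
    exact neg_mem (Ideal.mul_mem_right _ _ (Ideal.pow_le_pow_right (Nat.le_succ n) (ha n).1))
  obtain ⟨L, hL⟩ := exists_sum (M := A) {g} (fun f hf => by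
    rw [Finset.mem_singleton.1 hf]; exact h g h₀) (fun n => a (n + 1) - a n)
    (fun n => by rw [Finset.coe_singleton]; exact hstep n)
  set b := a₀ + L
  have hb : ∀ n, b - a n ∈ J ^ n := fun n => by
    have := hL n
    rw [Finset.coe_singleton, Ideal.smul_eq_mul, Ideal.mul_top, Finset.sum_range_sub a] at this
    rw [show b - a n = L - (a n - a 0) by show a₀ + L - a n = L - (a n - a₀); ring]
    exact this
  have hbJ : ∀ n, p.eval b ∈ J ^ n := fun n => by
    rw [← sub_add_cancel (p.eval b) (p.eval (a n))]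
    exact add_mem (Ideal.mem_of_dvd _ (Polynomial.sub_dvd_eval_sub _ _ _) (hb n))
      (Ideal.pow_le_pow_right (Nat.le_succ n) (ha n).1)
  have hb0 : b - a₀ ∈ J := by
    have := hb 1
    rw [pow_one] at this
    rw [← sub_add_sub_cancel b (a 1) a₀]
    exact add_mem this (ha 1).2
  have hd : IsUnit (p.derivative.eval b) := by
    have hj : p.derivative.eval b - p.derivative.eval a₀ ∈ Ideal.jacobson (⊥ : Ideal A) :=
      le_jacobson h ((Ideal.span_singleton_le_iff_mem I).2 h₀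
        (Ideal.mem_of_dvd _ (Polynomial.sub_dvd_eval_sub _ _ _) hb0))
    have := Ideal.mem_jacobson_bot.1 hj ↑v⁻¹
    rw [← hv, sub_mul, Units.mul_inv, sub_add_cancel, IsUnit.mul_iff] at this
    exact this.1
  obtain ⟨w, hw⟩ := hd
  refine ⟨b + -(p.eval b * ↑w⁻¹), ?_, ?_⟩
  · obtain ⟨k, hk⟩ := Polynomial.binomExpansion p b (-(p.eval b * ↑w⁻¹))
    have hsq : p.eval b * p.eval b = 0 := by
      have hm : p.eval b ∈ ⨅ n : ℕ, (⊥ : Ideal A) ⊔ Ideal.span {g ^ n} := by
        simp only [bot_sup_eq, Submodule.mem_iInf]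
        exact fun n => Ideal.span_singleton_pow g n ▸ hbJ n
      exact (Ideal.mem_bot).1 (iInf_sq_le ⊥
        ((h g h₀).of_equiv (Submodule.quotEquivOfEqBot (⊥ : Ideal A) rfl).symm) (Ideal.mul_mem_mul hm hm))
    rw [Polynomial.IsRoot, hk, ← hw]
    linear_combination (-(p.eval b)) * Units.mul_inv w + (k * (↑w⁻¹) ^ 2) * hsq
  · refine (Ideal.span_singleton_le_iff_mem I).2 h₀ ?_
    rw [show b + -(p.eval b * ↑w⁻¹) - a₀ = (b - a₀) - p.eval b * ↑w⁻¹ by ring]
    exact sub_mem hb0 (Ideal.mul_mem_right _ _ (by simpa using hbJ 1))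

theorem henselianRing {I : Ideal A} (h : ∀ f ∈ I, Bij f A) : HenselianRing A I where
  jac := le_jacobson h
  is_henselian p _ a₀ h₁ h₂ := by
    refine exists_root h p a₀ h₁ ?_
    haveI : IsLocalHom (Ideal.Quotient.mk I) := isLocalHom_of_le_jacobson_bot I (le_jacobson h)
    exact isUnit_of_map_unit (Ideal.Quotient.mk I) _ h₂

end Groth.Agent.H4DR.DComplete
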