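import Groth.Agent.H4DR.DComplete.Series
import Groth.Agent.H4DR.DComplete.Ring

/-!
# Derived complete modules with finite reduction over a Noetherian ring
-/

set_option autoImplicit false
set_option linter.style.haveILetI false

universe u

open PowerSeries

namespace Groth.Agent.H4DR.DComplete

section ev

variable {A : Type u} [CommRing A] {f : A} {M : Type u} [AddCommGroup M] [Module A M]

/-- The value of the series `∑ fᵏ sₖ`. -/
noncomputable def ev (h : Bij f M) : (ℕ → M) →ₗ[A] M :=
  LinearMap.proj 0 ∘ₗ (LinearEquiv.ofBijective (T f M) h).symm.toLinearMap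

lemma ev_eq (h : Bij f M) (s : ℕ → M) : ev h s = s 0 + f • ev h (fun k => s (k + 1)) := by
  let E := LinearEquiv.ofBijective (T f M) h
  set m := E.symm s
  have hm : ∀ k, m k = s k + f • m (k + 1) := T_eq_iff.1 (E.apply_symm_apply s)
  have : E.symm (fun k => s (k + 1)) = fun k => m (k + 1) :=
    E.symm_apply_eq.2 (T_eq_iff.2 (fun k => hm (k + 1))).symm
  show m 0 = s 0 + f • E.symm (fun k => s (k + 1)) 0
  rw [this]
  exact hm 0

/-- The endomorphism given by a power series in `f`. -/
noncomputable def act (h : Bij f M) (p : A⟦X⟧) : Module.End A M :=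
  ev h ∘ₗ LinearMap.pi fun k => coeff k p • LinearMap.id

/-- Drop the constant coefficient. -/
noncomputable def tl (p : A⟦X⟧) : A⟦X⟧ := PowerSeries.mk fun k => coeff (k + 1) p

lemma act_eq (h : Bij f M) (p : A⟦X⟧) (x : M) :
    act h p x = constantCoeff p • x + f • act h (tl p) x := by
  show ev h (fun k => coeff k p • x) = constantCoeff p • x + f • ev h (fun k => coeff k (tl p) • x)
  rw [ev_eq, coeff_zero_eq_constantCoeff_apply]
  simp only [tl, coeff_mk]

lemma act_add (h : Bij f M) (p q : A⟦X⟧) : act h (p + q) = act h p + act h q := by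
  ext x
  show ev h (fun k => coeff k (p + q) • x) = ev h (fun k => coeff k p • x) + ev h (fun k => coeff k q • x)
  simp only [map_add, add_smul]
  exact map_add (ev h) (fun k => coeff k p • x) (fun k => coeff k q • x)

lemma act_zero (h : Bij f M) : act h 0 = 0 := by
  ext x
  show ev h (fun k => coeff k (0 : A⟦X⟧) • x) = 0
  simp only [map_zero, zero_smul]
  exact map_zero (ev h)

lemma act_C (h : Bij f M) (a : A) : act h (C a) = a • 1 := by
  ext x
  rw [act_eq, constantCoeff_C, show tl (C a) = 0 by ext k; simp [tl], act_zero]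
  simp

lemma act_smul (h : Bij f M) (a : A) (p : A⟦X⟧) : act h (C a * p) = a • act h p := by
  ext x
  show ev h (fun k => coeff k (C a * p) • x) = a • ev h (fun k => coeff k p • x)
  simp only [coeff_C_mul, mul_smul]
  rw [← map_smul]
  rfl

lemma act_X_mul (h : Bij f M) (p : A⟦X⟧) : act h (X * p) = f • act h p := by
  ext x
  rw [act_eq, show tl (X * p) = p by ext k; simp [tl]]
  simp

lemma eq_C_add_X_mul_tl (p : A⟦X⟧) : p = C (constantCoeff p) + X * tl p := by
  rw [add_comm]
  exact p.eq_X_mul_shift_add_const

lemma act_mul (h : Bij f M) (p q : A⟦X⟧) : act h (p * q) = act h p * act h q := by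
  ext x
  let D : ℕ → M := fun k => act h (tl^[k] p * q) x - (act h (tl^[k] p) * act h q) x
  have key : ∀ r : A⟦X⟧, act h (r * q) x - (act h r * act h q) x =
      f • (act h (tl r * q) x - (act h (tl r) * act h q) x) := fun r => by
    conv_lhs => enter [1]; rw [eq_C_add_X_mul_tl r]
    rw [add_mul, mul_assoc, act_add, act_smul, act_X_mul]
    simp only [Module.End.mul_apply, LinearMap.add_apply, LinearMap.smul_apply, act_eq h r, smul_sub]
    abel
  have h0 : D 0 = 0 := h.eq_zero (m := D) (fun k => by
    simp only [D, Function.iterate_succ_apply']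
    exact key _) 0
  exact sub_eq_zero.1 h0

/-- The ring map to endomorphisms. -/
noncomputable def actHom (h : Bij f M) : A⟦X⟧ →+* Module.End A M where
  toFun := act h
  map_one' := by rw [← map_one (C (R := A)), act_C, one_smul]
  map_mul' := act_mul h
  map_zero' := act_zero h
  map_add' := act_add h

end ev

lemma bij_of_smul_eq {A B : Type*} [CommRing A] [CommRing B] {M : Type*} [AddCommGroup M] [Module A M]
    [Module B M] {f : A} {y : B} (e : ∀ x : M, y • x = f • x) (h : Bij f M) : Bij y M := by
  have : (T y M : (ℕ → M) → (ℕ → M)) = T f M := by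
    funext m k
    simp [T_apply, e]
  unfold Bij
  rw [this]
  exact h

lemma bij_powerSeries_X {A : Type u} [CommRing A] : Bij (X : A⟦X⟧) A⟦X⟧ := by
  refine ⟨(injective_iff_map_eq_zero _).2 fun m hm => ?_, fun s => ?_⟩
  · have h : ∀ k, m k = X * m (k + 1) := fun k => sub_eq_zero.1 (congrFun hm k)
    have : ∀ n k, coeff n (m k) = 0 := fun n => by
      induction n with
      | zero => intro k; rw [h k, coeff_zero_X_mul]
      | succ n ih => intro k; rw [h k, coeff_succ_X_mul]; exact ih _
    funext k
    ext n
    simp [this n k]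
  · refine ⟨fun k => PowerSeries.mk fun n => ∑ j ∈ Finset.range (n + 1), coeff (n - j) (s (k + j)),
      T_eq_iff.2 fun k => ?_⟩
    ext n
    cases n with
    | zero => simp [smul_eq_mul]
    | succ n =>
      rw [map_add, smul_eq_mul, coeff_succ_X_mul, coeff_mk, coeff_mk, Finset.sum_range_succ', add_comm]
      congr 1
      refine Finset.sum_congr rfl fun j _ => ?_
      rw [Nat.succ_sub_succ, show k + 1 + j = k + (j + 1) by ring]

lemma bij_powerSeries_C {A : Type u} [CommRing A] {g : A} (h : Bij g A) : Bij (C g) A⟦X⟧ := by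
  let e : (ℕ → A) ≃ₗ[A] A⟦X⟧ :=
    { toFun := PowerSeries.mk
      invFun := fun p n => coeff n p
      left_inv := fun v => funext fun n => coeff_mk n v
      right_inv := fun p => by ext n; simp
      map_add' := fun v w => by ext n; simp
      map_smul' := fun a v => by ext n; simp }
  exact bij_of_smul_eq (f := g) (fun x => by rw [smul_eq_mul, smul_eq_C_mul]) ((h.pi ℕ).of_equiv e)

/-- A Noetherian ring over which the `f ∈ s` become topologically nilpotent and acts on `M`. -/
theorem exists_ring {A : Type u} [CommRing A] [IsNoetherianRing A] {M : Type u} [AddCommGroup M] [Module A M]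
    (s : Finset A) : (∀ f ∈ s, Bij f M) →
    ∃ (B : Type u) (_ : CommRing B) (_ : IsNoetherianRing B) (_ : Algebra A B) (_ : Module B M)
      (_ : IsScalarTower A B M), ∀ f ∈ s, ∃ y : B, Bij y B ∧ ∀ x : M, y • x = f • x := by
  classical
  induction s using Finset.induction_on with
  | empty =>
    intro _
    exact ⟨A, inferInstance, inferInstance, inferInstance, inferInstance, inferInstance,
      fun f hf => absurd hf (Finset.notMem_empty f)⟩
  | @insert f s _ ih =>
    intro hb
    obtain ⟨B, _, _, _, _, _, hB⟩ := ih fun g hg => hb g (Finset.mem_insert_of_mem hg)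
    have hf : Bij (algebraMap A B f) M := (bij_algebraMap f).2 (hb f (Finset.mem_insert_self _ _))
    letI : Module B⟦X⟧ M := Module.compHom M (actHom hf)
    have hC : ∀ (b : B) (x : M), (C b : B⟦X⟧) • x = b • x := fun b x => by
      show act hf (C b) x = _
      rw [act_C]
      simp
    haveI : IsScalarTower A B⟦X⟧ M := IsScalarTower.of_algebraMap_smul fun a x => by
      rw [PowerSeries.algebraMap_apply, hC, algebraMap_smul]
    refine ⟨B⟦X⟧, inferInstance, inferInstance, inferInstance, inferInstance, inferInstance, fun g hg => ?_⟩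
    rcases Finset.mem_insert.1 hg with rfl | hg
    · refine ⟨X, bij_powerSeries_X, fun x => ?_⟩
      show act hf X x = _
      rw [← mul_one (X : B⟦X⟧), act_X_mul, ← map_one (C (R := B)), act_C]
      simp
    · obtain ⟨y, hy, hyx⟩ := hB g hg
      exact ⟨C y, bij_powerSeries_C hy, fun x => (hC y x).trans (hyx x)⟩

lemma smul_restrictScalars_le {A B M : Type*} [CommRing A] [CommRing B] [Algebra A B] [AddCommGroup M]
    [Module A M] [Module B M] [IsScalarTower A B M] {S : Set A} {J : Ideal B}
    (hJ : ∀ a ∈ S, ∃ y ∈ J, ∀ x : M, y • x = a • x) (N : Submodule B M) :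
    Ideal.span S • N.restrictScalars A ≤ (J • N).restrictScalars A := by
  refine Submodule.smul_le.2 fun a ha x hx => ?_
  induction ha using Submodule.span_induction with
  | mem a ha =>
    obtain ⟨y, hy, hyx⟩ := hJ a ha
    exact hyx x ▸ (Submodule.smul_mem_smul hy hx : y • x ∈ J • N)
  | zero => rw [zero_smul]; exact zero_mem _
  | add a b _ _ iha ihb => rw [add_smul]; exact add_mem iha ihb
  | smul c a _ iha => rw [smul_assoc]; exact Submodule.smul_mem _ c iha

lemma pow_smul_top_le {A B M : Type*} [CommRing A] [CommRing B] [Algebra A B] [AddCommGroup M]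
    [Module A M] [Module B M] [IsScalarTower A B M] {S : Set A} {J : Ideal B}
    (hJ : ∀ a ∈ S, ∃ y ∈ J, ∀ x : M, y • x = a • x) : ∀ n,
    (Ideal.span S ^ n • ⊤ : Submodule A M) ≤ (J ^ n • ⊤ : Submodule B M).restrictScalars A
  | 0 => by simp
  | n + 1 => by
    rw [pow_succ', mul_smul, pow_succ' J, mul_smul]
    exact (Submodule.smul_mono le_rfl (pow_smul_top_le hJ n)).trans (smul_restrictScalars_le hJ _)

/-- Derived complete modules with finite reduction are adically complete. -/
theorem isAdicComplete_of_finite {A : Type u} [CommRing A] [IsNoetherianRing A] {M : Type u}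
    [AddCommGroup M] [Module A M] (I : Ideal A) (hb : ∀ f ∈ I, Bij f M)
    (hf : Module.Finite A (M ⧸ I • (⊤ : Submodule A M))) : IsAdicComplete I M := by
  classical
  obtain ⟨s, rfl⟩ := (IsNoetherian.noetherian I : I.FG)
  have hs : ∀ f ∈ s, Bij f M := fun f hfs => hb f (Ideal.subset_span hfs)
  obtain ⟨B, _, _, _, _, _, hB⟩ := exists_ring s hs
  choose y hy hyx using fun f : s => hB f f.2
  let J : Ideal B := Ideal.span ((Finset.univ.image y : Finset B) : Set B)
  have hJb : J ≤ bijIdeal (A := B) B := Ideal.span_le.2 fun b hb' => by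
    obtain ⟨f, -, rfl⟩ := Finset.mem_image.1 (Finset.mem_coe.1 hb')
    exact hy f
  have hJ : ∀ a ∈ (s : Set A), ∃ z ∈ J, ∀ x : M, z • x = a • x := fun a ha =>
    ⟨y ⟨a, ha⟩, Ideal.subset_span (Finset.mem_coe.2 (Finset.mem_image_of_mem y (Finset.mem_univ _))),
      hyx ⟨a, ha⟩⟩
  have hI := smul_restrictScalars_le (M := M) hJ
  have hpow := pow_smul_top_le (M := M) hJ
  haveI : Module.Finite B M := by
    obtain ⟨S, hS⟩ := hf.fg_top
    let g : S → M := fun q => (Submodule.mkQ_surjective _ q.1).choose
    have hg : ∀ q : S, (Ideal.span (s : Set A) • (⊤ : Submodule A M)).mkQ (g q) = q.1 :=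
      fun q => (Submodule.mkQ_surjective _ q.1).choose_spec
    let u : (S → B) →ₗ[B] M := Fintype.linearCombination B g
    haveI : Subsingleton (M ⧸ LinearMap.range u) := by
      refine subsingleton_of_smul_top (A := B) (Finset.univ.image y) (fun b hb' => ?_) (eq_top_iff.2 ?_)
      · obtain ⟨f, -, rfl⟩ := Finset.mem_image.1 hb'
        exact ((hy f).pi S).coker u (bij_of_smul_eq (hyx f) (hs f f.2))
      · show ⊤ ≤ J • (⊤ : Submodule B (M ⧸ LinearMap.range u))
        have htop : (⊤ : Submodule B M) ≤ LinearMap.range u ⊔ J • ⊤ := by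
          intro x _
          let W : Submodule A M := (LinearMap.range u ⊔ J • ⊤).restrictScalars A
          have h1 : Ideal.span (s : Set A) • (⊤ : Submodule A M) ≤ W :=
            le_trans (by simpa using hI ⊤) (fun z hz => Submodule.mem_sup_right hz)
          have h2 : (⊤ : Submodule A _) ≤ W.map (Ideal.span (s : Set A) • (⊤ : Submodule A M)).mkQ := by
            rw [← hS, Submodule.span_le]
            intro q hq
            exact ⟨g ⟨q, hq⟩, Submodule.mem_sup_left ⟨Pi.single ⟨q, hq⟩ 1, by
              simp [u, Fintype.linearCombination_apply_single]⟩, hg ⟨q, hq⟩⟩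
          obtain ⟨w, hw, hwx⟩ := h2 (x := (Ideal.span (s : Set A) • (⊤ : Submodule A M)).mkQ x) trivial
          have := add_mem hw (h1 ((Submodule.Quotient.eq _).1 hwx.symm))
          rwa [add_sub_cancel] at this
        have := Submodule.map_mono (f := (LinearMap.range u).mkQ) htop
        rw [Submodule.map_top, Submodule.range_mkQ, Submodule.map_sup, Submodule.map_smul'',
          Submodule.map_top, Submodule.range_mkQ, Submodule.mkQ_map_self, bot_sup_eq] at this
        exact this
    exact Module.Finite.of_surjective u (LinearMap.range_eq_top.1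
      (Submodule.Quotient.subsingleton_iff.1 inferInstance))
  haveI : IsHausdorff (Ideal.span (s : Set A)) M := ⟨fun x hx => by
    have hx' : x ∈ ⨅ n : ℕ, (J ^ n • ⊤ : Submodule B M) :=
      (Submodule.mem_iInf _).2 fun n => hpow n (SModEq.zero.1 (hx n))
    rwa [Ideal.iInf_pow_smul_eq_bot_of_le_jacobson J (le_jacobson fun b hb' => hJb hb'),
      Submodule.mem_bot] at hx'⟩
  exact AdicCompletion.of_bijective_iff.1
    ⟨AdicCompletion.of_injective_iff.2 inferInstance, surjective_completion s rfl hs⟩

/-- The completion of a module with finite reduction is finite over the completed ring. -/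
theorem finite_completion {A : Type u} [CommRing A] {M : Type u}
    [AddCommGroup M] [Module A M] (I : Ideal A)
    (hf : Module.Finite A (M ⧸ I • (⊤ : Submodule A M))) :
    Module.Finite (AdicCompletion I A) (AdicCompletion I M) := by
  classical
  obtain ⟨n, v, hv⟩ := Module.Finite.exists_fin' A (M ⧸ I • (⊤ : Submodule A M))
  let F : (Fin n → A) →ₗ[A] M := Fintype.linearCombination A fun i =>
    (Submodule.mkQ_surjective _ (v (Pi.single i 1))).choose
  have hF : (I • (⊤ : Submodule A M)).mkQ ∘ₗ F = v := by
    refine LinearMap.pi_ext' fun i => LinearMap.ext_ring ?_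
    simp only [LinearMap.comp_apply, LinearMap.single_apply, F, Fintype.linearCombination_apply_single,
      one_smul]
    exact (Submodule.mkQ_surjective _ (v (Pi.single i 1))).choose_spec
  exact Module.Finite.of_surjective
    ((AdicCompletion.map I F) ∘ₗ (AdicCompletion.piEquivFin I n).symm.toLinearMap)
    ((AdicCompletion.map_surjective_of_mkQ_comp_surjective (hF ▸ hv)).comp (LinearEquiv.surjective _))

end Groth.Agent.H4DR.DComplete
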