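import Groth.Agent.H4DR.DComplete.Hom
import Groth.Agent.H16Derived.KInjRes.Products
import Groth.Agent.H4DR.Hom.Split

/-!
# Complexes on which `f` is invertible are orthogonal to derived complete objects
-/

set_option autoImplicit false
set_option linter.style.haveILetI false

universe u

open CategoryTheory CategoryTheory.Limits
open Groth.Agent.H16Derived
open scoped ZeroObject

attribute [local instance] HasDerivedCategory.standard

namespace Groth.Agent.H4DR.DComplete

variable {A : Type u} [CommRing A]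

/-- `Hom(N, -)`. -/
def homF (N : ModuleCat.{u} A) : ModuleCat.{u} A ⥤ ModuleCat.{u} A where
  obj M := ModuleCat.of A (N →ₗ[A] M)
  map {M M'} g := ModuleCat.ofHom (LinearMap.llcomp A N M M' g.hom)

instance additive_homF (N : ModuleCat.{u} A) : (homF N).Additive where
  map_add {_ _ _ _} := ModuleCat.hom_ext (LinearMap.ext fun _ => LinearMap.add_comp _ _ _)

/-- `Hom(N, -)` applied termwise. -/
noncomputable abbrev coind (N : ModuleCat.{u} A) (J : DRing.Cx A) : DRing.Cx A :=
  ((homF N).mapHomologicalComplex (ComplexShape.up ℤ)).obj J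

lemma isKInjective_Q_map_eq {J : DRing.Cx A} [CochainComplex.IsKInjective J] {P : DRing.Cx A}
    {g : P ⟶ J} (h : DerivedCategory.Q.map g = 0) : Nonempty (Homotopy g 0) := by
  refine ⟨HomotopyCategory.homotopyOfEq _ _ ?_⟩
  refine (CochainComplex.IsKInjective.Qh_map_bijective _ J).1 ?_
  rw [← cancel_mono ((DerivedCategory.quotientCompQhIso (ModuleCat.{u} A)).hom.app J)]
  refine ((DerivedCategory.quotientCompQhIso (ModuleCat.{u} A)).hom.naturality _).trans ?_
  rw [h, ← Functor.map_zero DerivedCategory.Q P J]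
  exact ((DerivedCategory.quotientCompQhIso (ModuleCat.{u} A)).hom.naturality _).symm

theorem exactAt_coind' (N : ModuleCat.{u} A) (J : DRing.Cx A) [CochainComplex.IsKInjective J] (n : ℤ)
    (hn : Subsingleton (Dual.inD A N ⟶ (DRing.toD J)⟦n⟧)) : (coind N J).ExactAt n := by
  rw [HomologicalComplex.exactAt_iff' _ (n - 1) n (n + 1) (by simp) (by simp),
    ShortComplex.moduleCat_exact_iff]
  intro (g : N →ₗ[A] J.X n) hg
  have hg' : (J.d n (n + 1)).hom ∘ₗ g = 0 := hg
  let φ : Hom.sgl n N ⟶ J := HomologicalComplex.mkHomFromSingle (ModuleCat.ofHom g) fun i (hi : n + 1 = i) => by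
    subst hi
    exact ModuleCat.hom_ext hg'
  have h0 : DerivedCategory.Q.map φ = 0 := by
    haveI : Subsingleton (DRing.toD (Hom.sgl n N) ⟶ DRing.toD J) := by
      haveI : Subsingleton ((Dual.inD A N)⟦-n⟧ ⟶ DRing.toD J) := by
        refine subsingleton_of_forall_eq 0 fun x => (shiftFunctor (Dual.D A) n).map_injective ?_
        rw [Functor.map_zero, ← cancel_epi ((shiftFunctorCompIsoId (Dual.D A) (-n) n (by omega)).inv.app _)]
        exact Subsingleton.elim (α := Dual.inD A N ⟶ (DRing.toD J)⟦n⟧) _ _
      exact (Iso.homFromEquiv (Z := DRing.toD J) (Hom.shiftInDIso N n (-n) (by omega))).subsingleton_congr.1 this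
    exact Subsingleton.elim _ _
  obtain ⟨H⟩ := isKInjective_Q_map_eq h0
  refine ⟨((HomologicalComplex.singleObjXSelf (ComplexShape.up ℤ) n N).inv ≫ H.hom n (n - 1)).hom, ?_⟩
  have hc := H.comm n
  rw [dNext_eq _ (show (ComplexShape.up ℤ).Rel n (n + 1) by simp),
    prevD_eq _ (show (ComplexShape.up ℤ).Rel (n - 1) n by simp), HomologicalComplex.single_obj_d,
    zero_comp, zero_add, HomologicalComplex.zero_f, add_zero] at hc
  have hφ : φ.f n = (HomologicalComplex.singleObjXSelf (ComplexShape.up ℤ) n N).hom ≫ ModuleCat.ofHom g :=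
    HomologicalComplex.mkHomFromSingle_f _ _
  rw [hφ] at hc
  have : (HomologicalComplex.singleObjXSelf (ComplexShape.up ℤ) n N).inv ≫ H.hom n (n - 1) ≫ J.d (n - 1) n =
      ModuleCat.ofHom g := by rw [← hc, Iso.inv_hom_id_assoc]
  exact congrArg ModuleCat.Hom.hom this

theorem exactAt_coind (N : ModuleCat.{u} A) (J : DRing.Cx A) [CochainComplex.IsKInjective J]
    (h : ∀ n : ℤ, Subsingleton (Dual.inD A N ⟶ (DRing.toD J)⟦n⟧)) (n : ℤ) : (coind N J).ExactAt n :=
  exactAt_coind' N J n (h n)

/-- Maps from a complex with `f` invertible on all terms to a derived complete object vanish. -/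
theorem hom_eq_zero {I : Ideal A} {f : A} (hf : f ∈ I) (K : DRing.Cx A)
    (hK : ∀ i : ℤ, Function.Bijective (fun x : K.X i => f • x)) {L : Dual.D A}
    (hL : DRing.IsDerivedComplete I L) (φ : DRing.toD K ⟶ L) : φ = 0 := by
  obtain ⟨J, hJ, ⟨e⟩⟩ := KInjRes.exists_kInjective_iso L
  haveI : CochainComplex.IsKInjective J := hJ
  let N : ModuleCat.{u} A := ModuleCat.of A (Localization.Away f)
  have hN : ∀ n : ℤ, Subsingleton (Dual.inD A N ⟶ (DRing.toD J)⟦n⟧) := fun n =>
    (Iso.homToEquiv (Z := Dual.inD A N) ((shiftFunctor (Dual.D A) n).mapIso e)).subsingleton_congr.1 (hL f hf n)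
  have hunit : ∀ (i : ℤ) (x : Submonoid.powers f), IsUnit ((algebraMap A (Module.End A (K.X i))) x) := by
    rintro i ⟨_, n, rfl⟩
    have h1 : IsUnit (algebraMap A (Module.End A (K.X i)) f) :=
      (Module.End.isUnit_iff _).2 (hK i)
    simpa using h1.pow n
  let ext (i : ℤ) (x : K.X i) : N →ₗ[A] K.X i :=
    IsLocalizedModule.lift (Submonoid.powers f) (Algebra.linearMap A (Localization.Away f))
      (LinearMap.toSpanSingleton A (K.X i) x) (hunit i)
  have hext1 : ∀ i x, ext i x (1 : Localization.Away f) = x := fun i x => by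
    have := IsLocalizedModule.lift_apply (Submonoid.powers f) (Algebra.linearMap A (Localization.Away f))
      (LinearMap.toSpanSingleton A (K.X i) x) (hunit i) 1
    simp only [Algebra.linearMap_apply, map_one, LinearMap.toSpanSingleton_apply_one] at this
    exact this
  have huniq : ∀ i (u v : N →ₗ[A] K.X i), u (1 : Localization.Away f) = v (1 : Localization.Away f) → u = v := by
    intro i u v h
    refine IsLocalizedModule.ext (Submonoid.powers f) (Algebra.linearMap A (Localization.Away f)) (hunit i) ?_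
    ext
    simpa using h
  let E : ∀ i, K.X i →ₗ[A] (N →ₗ[A] K.X i) := fun i =>
    { toFun := ext i
      map_add' := fun x y => huniq i _ _ (by simp [hext1])
      map_smul' := fun r x => huniq i _ _ (by simp [hext1]) }
  obtain ⟨g, hg⟩ : ∃ g : K ⟶ J, DerivedCategory.Q.map g = φ ≫ e.hom := by
    obtain ⟨u, hu⟩ := (CochainComplex.IsKInjective.Qh_map_bijective ((HomotopyCategory.quotient _ _).obj K) J).2
      ((DerivedCategory.quotientCompQhIso _).hom.app K ≫ (φ ≫ e.hom) ≫
        (DerivedCategory.quotientCompQhIso _).inv.app J)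
    obtain ⟨g, rfl⟩ := (HomotopyCategory.quotient _ _).map_surjective u
    refine ⟨g, (cancel_epi ((DerivedCategory.quotientCompQhIso _).hom.app K)).1 ?_⟩
    have hn := (DerivedCategory.quotientCompQhIso (ModuleCat.{u} A)).hom.naturality g
    rw [Functor.comp_map, hu, Category.assoc, Category.assoc, Iso.inv_hom_id_app, Category.comp_id] at hn
    exact hn.symm
  let g' : K ⟶ coind N J :=
    { f := fun i => ModuleCat.ofHom ((LinearMap.llcomp A N (K.X i) (J.X i) (g.f i).hom) ∘ₗ E i)
      comm' := fun i j _ => ModuleCat.hom_ext (LinearMap.ext fun x => by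
        show (J.d i j).hom ∘ₗ ((g.f i).hom ∘ₗ E i x) = (g.f j).hom ∘ₗ E j ((K.d i j).hom x)
        rw [← LinearMap.comp_assoc, ← ModuleCat.hom_comp, g.comm, ModuleCat.hom_comp, LinearMap.comp_assoc]
        congr 1
        exact huniq j _ _ (by
          show (K.d i j).hom (ext i x (1 : Localization.Away f)) = ext j _ (1 : Localization.Away f)
          rw [hext1, hext1])) }
  let ev : coind N J ⟶ J :=
    { f := fun i => ModuleCat.ofHom (LinearMap.applyₗ (1 : Localization.Away f))
      comm' := fun i j _ => ModuleCat.hom_ext (LinearMap.ext fun x => rfl) }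
  have hfac : g' ≫ ev = g := by
    ext i x
    exact congrArg (g.f i).hom (hext1 i x)
  have hz : IsZero (DerivedCategory.Q.obj (coind N J)) := by
    have hac : (coind N J).Acyclic := exactAt_coind N J hN
    have : QuasiIso (0 : coind N J ⟶ 0) := ⟨fun i => by
      rw [quasiIsoAt_iff_exactAt _ _ (hac i)]
      exact HomologicalComplex.ExactAt.of_isZero ((HomologicalComplex.eval _ _ i).map_isZero (isZero_zero _))⟩
    exact (DerivedCategory.Q.map_isZero (isZero_zero _)).of_iso
      (asIso (DerivedCategory.Q.map (0 : coind N J ⟶ 0)))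
  refine (cancel_mono e.hom).1 ?_
  rw [zero_comp, ← hg, ← hfac, Functor.map_comp, hz.eq_of_src (DerivedCategory.Q.map ev) 0, comp_zero]

end Groth.Agent.H4DR.DComplete
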